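import Cfsg.Agent.H255.RG.Bic
import Cfsg.Agent.H255.RG.Cyc

/-!
# The product inequality for components of rank at most two (helper255, S3509 F5)

`b : ι → V` a base, `m` the matching of the diagram (`m i = i` for a component `A₁`, `m i` the other node for a component `A₂`),
`σ` a permutation of `ι` commuting with `m`, `θ (b i) = b (σ i)`:

* `PM b m` : the elements `b i` and `b i + b (m i)`;
* `Mt.pi_le` : `bsum (PM b m) θ q * cyc q σ ≤ q ^ (|PM b m| + |ι|)`.
-/

set_option autoImplicit false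

namespace Cfsg.Agent.H255.RG

open Finset Equiv Cfsg.Agent.H448.TorB

universe u v

variable {V : Type v} [AddCommGroup V] [DecidableEq V] {ι : Type u} [Fintype ι] [DecidableEq ι]

/-- the roots `b i` and `b i + b (m i)` -/
def PM (b : ι → V) (m : ι → ι) : Finset V :=
  univ.image b ∪ (univ.filter fun i => m i ≠ i).image fun i => b i + b (m i)

theorem mem_PM {b : ι → V} {m : ι → ι} {v : V} : v ∈ PM b m ↔ (∃ i, b i = v) ∨ ∃ i, m i ≠ i ∧ b i + b (m i) = v := by
  simp [PM]

/-- the data -/
structure Mt (b : ι → V) (m : ι → ι) (σ : Perm ι) (θ : V ≃+ V) : Prop where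
  inj : Function.Injective b
  ne : ∀ i j, m i ≠ i → b i + b (m i) ≠ b j
  eq : ∀ i j, m i ≠ i → m j ≠ j → b i + b (m i) = b j + b (m j) → j = i ∨ j = m i
  mm : ∀ i, m (m i) = i
  th : ∀ i, θ (b i) = b (σ i)
  ms : ∀ i, m (σ i) = σ (m i)

namespace Mt

variable {b : ι → V} {m : ι → ι} {σ : Perm ι} {θ : V ≃+ V}

theorem stab (h : Mt b m σ θ) : ∀ a ∈ PM b m, θ a ∈ PM b m := by
  intro a ha
  rcases mem_PM.1 ha with ⟨i, rfl⟩ | ⟨i, hi, rfl⟩
  · rw [h.th]
    exact mem_PM.2 (Or.inl ⟨_, rfl⟩)
  · rw [map_add, h.th, h.th, ← h.ms]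
    refine mem_PM.2 (Or.inr ⟨σ i, ?_, rfl⟩)
    rw [h.ms]
    exact fun h1 => hi (σ.injective h1)

theorem card_le (h : Mt b m σ θ) : Fintype.card ι ≤ (PM b m).card := by
  rw [← card_univ, ← card_image_of_injective univ h.inj]
  exact card_le_card subset_union_left

/-- a stable part -/
theorem sub (h : Mt b m σ θ) (p : ι → Prop) [DecidablePred p] (hσ : ∀ x, p (σ x) ↔ p x) (hm : ∀ x, p x → p (m x)) :
    Mt (fun x : {x // p x} => b x) (fun x => ⟨m x, hm x x.2⟩) (σ.subtypePerm hσ) θ where
  inj := fun x y hxy => Subtype.ext (h.inj hxy)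
  ne := fun i j hi => h.ne i j fun h1 => hi (Subtype.ext h1)
  eq := fun i j hi hj hij => (h.eq i j (fun h1 => hi (Subtype.ext h1)) (fun h1 => hj (Subtype.ext h1)) hij).imp
    (fun h1 => Subtype.ext h1) (fun h1 => Subtype.ext h1)
  mm := fun i => Subtype.ext (h.mm i)
  th := fun i => h.th i
  ms := fun i => Subtype.ext (h.ms i)

theorem split (p : ι → Prop) [DecidablePred p] (hm : ∀ x, p x → p (m x)) (hm' : ∀ x, ¬ p x → ¬ p (m x)) :
    PM b m = PM (fun x : {x // p x} => b x) (fun x => ⟨m x, hm x x.2⟩) ∪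
      PM (fun x : {x // ¬ p x} => b x) (fun x => ⟨m x, hm' x x.2⟩) := by
  ext v
  rw [mem_union, mem_PM, mem_PM, mem_PM]
  constructor
  · rintro (⟨i, rfl⟩ | ⟨i, hi, rfl⟩)
    · by_cases h1 : p i
      · exact Or.inl (Or.inl ⟨⟨i, h1⟩, rfl⟩)
      · exact Or.inr (Or.inl ⟨⟨i, h1⟩, rfl⟩)
    · by_cases h1 : p i
      · exact Or.inl (Or.inr ⟨⟨i, h1⟩, fun h2 => hi (congrArg Subtype.val h2), rfl⟩)
      · exact Or.inr (Or.inr ⟨⟨i, h1⟩, fun h2 => hi (congrArg Subtype.val h2), rfl⟩)
  · rintro ((⟨i, rfl⟩ | ⟨i, hi, rfl⟩) | (⟨i, rfl⟩ | ⟨i, hi, rfl⟩))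
    · exact Or.inl ⟨_, rfl⟩
    · exact Or.inr ⟨i, fun h2 => hi (Subtype.ext h2), rfl⟩
    · exact Or.inl ⟨_, rfl⟩
    · exact Or.inr ⟨i, fun h2 => hi (Subtype.ext h2), rfl⟩

theorem disj (h : Mt b m σ θ) (p : ι → Prop) [DecidablePred p] (hm : ∀ x, p x → p (m x))
    (hm' : ∀ x, ¬ p x → ¬ p (m x)) : Disjoint (PM (fun x : {x // p x} => b x) (fun x => ⟨m x, hm x x.2⟩))
      (PM (fun x : {x // ¬ p x} => b x) (fun x => ⟨m x, hm' x x.2⟩)) := by
  rw [disjoint_left]
  intro v h1 h2
  rw [mem_PM] at h1 h2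
  rcases h1 with ⟨i, rfl⟩ | ⟨i, hi, rfl⟩
  · rcases h2 with ⟨j, hj⟩ | ⟨j, hj, hij⟩
    · exact j.2 (h.inj hj ▸ i.2)
    · exact h.ne j i (fun h2 => hj (Subtype.ext h2)) hij
  · have hi' : m i ≠ i := fun h2 => hi (Subtype.ext h2)
    rcases h2 with ⟨j, hj⟩ | ⟨j, hj, hij⟩
    · exact h.ne i j hi' hj.symm
    · rcases h.eq i j hi' (fun h2 => hj (Subtype.ext h2)) hij.symm with h3 | h3
      · exact j.2 (h3 ▸ i.2)
      · exact j.2 (h3 ▸ hm i i.2)

/-- a biconvex stable set is stable under the cycles -/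
theorem mem_of_same {N : Finset V} (h : Mt b m σ θ) (hN : Bic (PM b m) θ N) {x y : ι} (hxy : σ.SameCycle x y)
    (hx : b x ∈ N) : b y ∈ N := by
  obtain ⟨k, rfl⟩ := hxy.exists_nat_pow_eq
  induction k with
  | zero => exact hx
  | succ k ih =>
    have h1 := hN.st _ (ih (Perm.sameCycle_pow_right.2 (Perm.SameCycle.refl _ _)))
    rw [h.th] at h1
    rwa [pow_succ', Perm.mul_apply]

/-- **one cycle** -/
theorem caseA (h : Mt b m σ θ) (x : ι) (hx : ∀ y, σ.SameCycle x y) {q : ℕ} (hq : 1 ≤ q) :
    bsum (PM b m) θ q * cyc q σ ≤ q ^ ((PM b m).card + Fintype.card ι) := by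
  classical
  have key : ∀ N, Bic (PM b m) θ N → N = ∅ ∨ N = PM b m := by
    intro N hN
    by_cases hb : b x ∈ N
    · right
      have hall : ∀ y, b y ∈ N := fun y => h.mem_of_same hN (hx y) hb
      refine subset_antisymm hN.sub fun v hv => ?_
      rcases mem_PM.1 hv with ⟨i, rfl⟩ | ⟨i, hi, rfl⟩
      · exact hall i
      · exact hN.add _ (hall _) _ (hall _) hv
    · left
      have hall : ∀ y, b y ∉ N := fun y hy => hb (h.mem_of_same hN (hx y).symm hy)
      rw [eq_empty_iff_forall_notMem]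
      intro v hv
      rcases mem_PM.1 (hN.sub hv) with ⟨i, rfl⟩ | ⟨i, hi, rfl⟩
      · exact hall i hv
      · exact hN.coadd _ (mem_PM.2 (Or.inl ⟨i, rfl⟩)) _ (mem_PM.2 (Or.inl ⟨m i, rfl⟩)) (hall _) (hall _) hv
  have hB : bsum (PM b m) θ q ≤ 1 + q ^ (PM b m).card := by
    unfold bsum
    refine le_trans (Finset.sum_le_sum_of_subset (t := {∅, PM b m}) fun N hN => ?_) ?_
    · rw [mem_bs] at hN
      rw [mem_insert, mem_singleton]
      exact key N hN
    · rw [sum_pair, card_empty, pow_zero]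
      intro h1
      have h2 : b x ∈ PM b m := mem_PM.2 (Or.inl ⟨x, rfl⟩)
      rw [← h1] at h2
      exact notMem_empty _ h2
  rw [cyc_trans q σ x hx]
  refine (Nat.mul_le_mul_right _ hB).trans ?_
  have h1 : q ^ Fintype.card ι ≤ q ^ (PM b m).card := Nat.pow_le_pow_right hq h.card_le
  have h2 : 1 ≤ q ^ Fintype.card ι := Nat.one_le_pow _ _ hq
  rw [pow_add]
  obtain ⟨u, hu⟩ : ∃ u, q ^ Fintype.card ι = u + 1 := ⟨q ^ Fintype.card ι - 1, by omega⟩
  rw [hu] at h1 h2 ⊢
  rw [Nat.add_sub_cancel]
  nlinarith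

/-- **two cycles** -/
theorem caseB (h : Mt b m σ θ) (x : ι) (hx : ∀ y, σ.SameCycle x y ∨ σ.SameCycle (m x) y)
    (hn : ¬ σ.SameCycle x (m x)) {q : ℕ} (hq : 2 ≤ q) :
    bsum (PM b m) θ q * cyc q σ ≤ q ^ ((PM b m).card + Fintype.card ι) := by
  classical
  set a := Function.minimalPeriod σ x with ha
  have hfin : x ∈ Function.periodicPts σ := by
    refine ⟨orderOf σ, orderOf_pos σ, ?_⟩
    show σ^[orderOf σ] x = x
    rw [Perm.iterate_eq_pow, pow_orderOf_eq_one, Perm.one_apply]
  have ha0 : 0 < a := Function.minimalPeriod_pos_of_mem_periodicPts hfin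
  have hax : σ^[a] x = x := Function.iterate_minimalPeriod
  have hit : ∀ k y, m (σ^[k] y) = σ^[k] (m y) := by
    intro k
    induction k with
    | zero => exact fun y => rfl
    | succ k ih =>
      intro y
      rw [Function.iterate_succ_apply', Function.iterate_succ_apply', h.ms, ih]
  have hth : ∀ k y, θ^[k] (b y) = b (σ^[k] y) := by
    intro k
    induction k with
    | zero => exact fun y => rfl
    | succ k ih =>
      intro y
      rw [Function.iterate_succ_apply', Function.iterate_succ_apply', ih, h.th]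
  have hadd : ∀ k (u v : V), θ^[k] (u + v) = θ^[k] u + θ^[k] v := by
    intro k
    induction k with
    | zero => exact fun u v => rfl
    | succ k ih =>
      intro u v
      rw [Function.iterate_succ_apply', Function.iterate_succ_apply', Function.iterate_succ_apply', ih, map_add]
  have hinjk : ∀ k, Function.Injective θ^[k] := fun k => θ.injective.iterate k
  have hsc : ∀ k, σ.SameCycle x (σ^[k] x) := fun k => by
    rw [Perm.iterate_eq_pow]
    exact Perm.sameCycle_pow_right.2 (Perm.SameCycle.refl _ _)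
  have hsc' : ∀ y, σ.SameCycle x y → ∃ k < a, y = σ^[k] x := by
    intro y hy
    obtain ⟨k, rfl⟩ := hy.exists_nat_pow_eq
    refine ⟨k % a, Nat.mod_lt _ ha0, ?_⟩
    rw [ha, Function.iterate_mod_minimalPeriod_eq, Perm.iterate_eq_pow]
  have hscm : ∀ {y z}, σ.SameCycle y z → σ.SameCycle (m y) (m z) := by
    intro y z hyz
    obtain ⟨k, rfl⟩ := hyz.exists_nat_pow_eq
    rw [← Perm.iterate_eq_pow, hit, Perm.iterate_eq_pow]
    exact Perm.sameCycle_pow_right.2 (Perm.SameCycle.refl _ _)
  have hmem' : ∀ y, σ.SameCycle (m x) y → ∃ k < a, y = m (σ^[k] x) := by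
    intro y hy
    have h1 := hscm hy
    rw [h.mm] at h1
    obtain ⟨k, hk, e⟩ := hsc' _ h1
    exact ⟨k, hk, by rw [← e, h.mm]⟩
  have hne : ∀ k, m (σ^[k] x) ≠ σ^[k] x := by
    intro k hk
    rw [hit] at hk
    have h1 : σ.SameCycle (σ^[k] x) (m x) := by
      rw [← hk, Perm.iterate_eq_pow]
      exact Perm.sameCycle_pow_left.2 (Perm.SameCycle.refl _ _)
    exact hn ((hsc k).trans h1)
  have hnes : ∀ i j, m (σ^[i] x) ≠ σ^[j] x := by
    intro i j hij
    rw [hit] at hij
    have h1 : σ.SameCycle (σ^[i] (m x)) (m x) := by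
      rw [Perm.iterate_eq_pow]
      exact Perm.sameCycle_pow_left.2 (Perm.SameCycle.refl _ _)
    rw [hij] at h1
    exact hn ((hsc j).trans h1)
  have hinjo : ∀ i < a, ∀ j < a, σ^[i] x = σ^[j] x → i = j := by
    intro i hi j hj hij
    exact Function.iterate_injOn_Iio_minimalPeriod (Set.mem_Iio.2 hi) (Set.mem_Iio.2 hj) hij
  set P₁ : Finset V := {b x, b (m x), b x + b (m x)} with hP₁
  have hx0 : m x ≠ x := hne 0
  have d1 : b x ≠ b (m x) := fun h1 => hx0 (h.inj h1).symm
  have d2 : b x + b (m x) ≠ b x := h.ne x x hx0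
  have d3 : b x + b (m x) ≠ b (m x) := h.ne x (m x) hx0
  have hP₁c : P₁.card = 3 := by
    rw [hP₁, card_eq_three]
    exact ⟨_, _, _, d1, d2.symm, d3.symm, rfl⟩
  have himg : ∀ k, P₁.image θ^[k] = {b (σ^[k] x), b (m (σ^[k] x)), b (σ^[k] x) + b (m (σ^[k] x))} := by
    intro k
    rw [hP₁, image_insert, image_insert, image_singleton, hth, hth, hadd, hth, hth, hit]
  have hPU : PM b m = (range a).biUnion fun i => P₁.image θ^[i] := by
    ext v
    rw [mem_biUnion, mem_PM]
    constructor
    · rintro (⟨i, rfl⟩ | ⟨i, hi, rfl⟩)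
      · rcases hx i with h1 | h1
        · obtain ⟨k, hk, rfl⟩ := hsc' _ h1
          exact ⟨k, mem_range.2 hk, by rw [himg]; simp⟩
        · obtain ⟨k, hk, rfl⟩ := hmem' _ h1
          exact ⟨k, mem_range.2 hk, by rw [himg]; simp⟩
      · rcases hx i with h1 | h1
        · obtain ⟨k, hk, rfl⟩ := hsc' _ h1
          exact ⟨k, mem_range.2 hk, by rw [himg]; simp⟩
        · obtain ⟨k, hk, rfl⟩ := hmem' _ h1
          refine ⟨k, mem_range.2 hk, ?_⟩
          rw [himg, h.mm, add_comm]
          simp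
    · rintro ⟨k, hk, hv⟩
      rw [himg, mem_insert, mem_insert, mem_singleton] at hv
      rcases hv with rfl | rfl | rfl
      · exact Or.inl ⟨_, rfl⟩
      · exact Or.inl ⟨_, rfl⟩
      · exact Or.inr ⟨_, hne k, rfl⟩
  have hdis : ∀ i < a, ∀ j < a, i ≠ j → Disjoint (P₁.image θ^[i]) (P₁.image θ^[j]) := by
    intro i hi j hj hij
    have e1 : σ^[i] x ≠ σ^[j] x := fun h1 => hij (hinjo i hi j hj h1)
    have e2 := hnes i j
    have e3 := hnes j i
    have e4 : m (σ^[i] x) ≠ m (σ^[j] x) := fun h1 => e1 (by rw [← h.mm (σ^[i] x), h1, h.mm])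
    rw [himg, himg, disjoint_left]
    intro v hv hv'
    rw [mem_insert, mem_insert, mem_singleton] at hv hv'
    rcases hv with rfl | rfl | rfl
    · rcases hv' with h1 | h1 | h1
      · exact e1 (h.inj h1)
      · exact e3 (h.inj h1).symm
      · exact h.ne _ _ (hne j) h1.symm
    · rcases hv' with h1 | h1 | h1
      · exact e2 (h.inj h1)
      · exact e4 (h.inj h1)
      · exact h.ne _ _ (hne j) h1.symm
    · rcases hv' with h1 | h1 | h1
      · exact h.ne _ _ (hne i) h1
      · exact h.ne _ _ (hne i) h1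
      · rcases h.eq _ _ (hne i) (hne j) h1 with h2 | h2
        · exact e1 h2.symm
        · exact e2 h2.symm
  have hPc : (PM b m).card = a * 3 := by
    rw [hPU, card_biUnion]
    · rw [sum_congr rfl (g := fun _ => 3)]
      · rw [sum_const, card_range, smul_eq_mul]
      · intro i _
        rw [card_image_of_injective _ (hinjk i), hP₁c]
    · exact fun i hi j hj hij => hdis i (mem_range.1 hi) j (mem_range.1 hj) hij
  -- the cycles
  have hcO : Fintype.card {y // σ.SameCycle x y} = a := by
    rw [Fintype.card_subtype]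
    have e : (univ.filter fun y => σ.SameCycle x y) = (range a).image fun i => σ^[i] x := by
      ext y
      rw [mem_filter, mem_image]
      constructor
      · rintro ⟨-, hy⟩
        obtain ⟨k, hk, rfl⟩ := hsc' _ hy
        exact ⟨k, mem_range.2 hk, rfl⟩
      · rintro ⟨k, -, rfl⟩
        exact ⟨mem_univ _, hsc k⟩
    rw [e, card_image_of_injOn, card_range]
    exact fun i hi j hj hij => hinjo i (mem_range.1 hi) j (mem_range.1 hj) hij
  have hcO' : Fintype.card {y // ¬ σ.SameCycle x y} = a := by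
    rw [← hcO]
    refine Fintype.card_congr ⟨fun y => ⟨m y, ?_⟩, fun y => ⟨m y, ?_⟩, fun y => Subtype.ext (h.mm _),
      fun y => Subtype.ext (h.mm _)⟩
    · have h1 := hscm ((hx y).resolve_left y.2)
      rwa [h.mm] at h1
    · intro h1
      have h2 := hscm y.2
      exact hn (h1.trans h2.symm)
  have hcι : Fintype.card ι = a * 2 := by
    have h1 := Fintype.card_subtype_compl fun y => σ.SameCycle x y
    have h2 := Fintype.card_subtype_le fun y => σ.SameCycle x y
    rw [hcO, hcO'] at h1
    rw [hcO] at h2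
    omega
  have hcyc : cyc q σ = (q ^ a - 1) ^ 2 := by
    rw [cyc_split hq σ (fun y => σ.SameCycle x y) fun y => Perm.sameCycle_apply_right, pow_two]
    congr 1
    · rw [cyc_trans q _ ⟨x, Perm.SameCycle.refl _ _⟩ fun y => Perm.sameCycle_subtypePerm.2 y.2, hcO]
    · rw [cyc_trans q _ ⟨m x, hn⟩ fun y => Perm.sameCycle_subtypePerm.2 ((hx y).resolve_left y.2), hcO']
  -- the sum
  have hB : bsum (PM b m) θ q ≤ bsum P₁ id (q ^ a) := by
    refine (bsum_cyc (fun u _ v _ huv => θ.injective huv) h.stab hPU hdis ha0 (fun u hu => ?_) q).trans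
      (bsum_id _ _ _)
    have e1 : σ^[a] (m x) = m x := by rw [← hit, hax]
    rw [hP₁, mem_insert, mem_insert, mem_singleton] at hu
    rcases hu with rfl | rfl | rfl
    · rw [hth, hax]; simp [hP₁]
    · rw [hth, e1]; simp [hP₁]
    · rw [hadd, hth, hth, hax, e1]; simp [hP₁]
  have hchain : Chain P₁ [2, 1] := by
    have c1 : Chain (∅ ∪ {b x}) [1] := by
      have := Chain.cons (R := {b x}) Chain.nil (disjoint_empty_left _) (fun u hu v hv huv => by
        rw [mem_singleton] at hu hv
        exact absurd (hu.trans hv.symm) huv)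
      rwa [card_singleton] at this
    have c2 := Chain.cons (R := {b (m x), b x + b (m x)}) c1 (by
      rw [empty_union, disjoint_singleton_left, mem_insert, mem_singleton]
      rintro (h1 | h1)
      · exact d1 h1
      · exact d2 h1.symm) (by
      intro u hu v hv huv
      rw [mem_insert, mem_singleton] at hu hv
      rcases hu with rfl | rfl <;> rcases hv with rfl | rfl
      · exact absurd rfl huv
      · right; simp
      · left; simp
      · exact absurd rfl huv)
    rw [card_pair d3.symm] at c2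
    have e : P₁ = ∅ ∪ {b x} ∪ {b (m x), b x + b (m x)} := by
      ext v
      simp only [hP₁, mem_insert, mem_singleton, mem_union, notMem_empty, false_or]
    rw [e]
    exact c2
  have h5 := bsum_chain_mul hchain (q ^ a)
  rw [hP₁c, List.length_cons, List.length_cons, List.length_nil] at h5
  rw [hcyc, hPc, hcι]
  refine (Nat.mul_le_mul_right _ hB).trans (h5.trans (le_of_eq ?_))
  rw [← pow_mul]
  ring_nf

end Mt

/-- **The product inequality.** -/
theorem Mt.pi_le {θ : V ≃+ V} {q : ℕ} (hq : 2 ≤ q) : ∀ (n : ℕ) {ι : Type u} [Fintype ι] [DecidableEq ι] {b : ι → V}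
    {m : ι → ι} {σ : Perm ι}, Fintype.card ι = n → Mt b m σ θ →
    bsum (PM b m) θ q * cyc q σ ≤ q ^ ((PM b m).card + Fintype.card ι) := by
  classical
  intro n
  induction n using Nat.strong_induction_on with
  | _ n ih =>
    intro ι _ _ b m σ hn h
    rcases isEmpty_or_nonempty ι with he | ⟨⟨x⟩⟩
    · have h1 : σ = 1 := Equiv.ext fun y => he.elim y
      have h2 : PM b m = ∅ := by
        rw [eq_empty_iff_forall_notMem]
        intro v hv
        rcases mem_PM.1 hv with ⟨i, -⟩ | ⟨i, -⟩ <;> exact he.elim i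
      rw [h1, cyc_one, h2, card_empty, Fintype.card_eq_zero, pow_zero, mul_one, pow_zero]
      exact bsum_empty _ _
    · have hscm : ∀ {y z}, σ.SameCycle y z → σ.SameCycle (m y) (m z) := by
        intro y z hyz
        obtain ⟨k, rfl⟩ := hyz.exists_nat_pow_eq
        have hit : ∀ k y, m (σ^[k] y) = σ^[k] (m y) := by
          intro k
          induction k with
          | zero => exact fun y => rfl
          | succ k ih =>
            intro y
            rw [Function.iterate_succ_apply', Function.iterate_succ_apply', h.ms, ih]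
        rw [← Perm.iterate_eq_pow, hit, Perm.iterate_eq_pow]
        exact Perm.sameCycle_pow_right.2 (Perm.SameCycle.refl _ _)
      by_cases hall : ∀ y, σ.SameCycle x y ∨ σ.SameCycle (m x) y
      · by_cases hx : σ.SameCycle x (m x)
        · exact h.caseA x (fun y => (hall y).elim id fun h1 => hx.trans h1) (by omega)
        · exact h.caseB x hall hx hq
      · -- split
        let p : ι → Prop := fun y => σ.SameCycle x y ∨ σ.SameCycle (m x) y
        have hσ : ∀ y, p (σ y) ↔ p y := fun y => or_congr Perm.sameCycle_apply_right Perm.sameCycle_apply_right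
        have hm : ∀ y, p y → p (m y) := by
          rintro y (h1 | h1)
          · exact Or.inr (hscm h1)
          · have h2 := hscm h1
            rw [h.mm] at h2
            exact Or.inl h2
        have hm' : ∀ y, ¬ p y → ¬ p (m y) := fun y hy h1 => hy (by
          have := hm _ h1
          rwa [h.mm] at this)
        obtain ⟨y, hy⟩ := not_forall.1 hall
        have hc1 : Fintype.card {z // p z} < n := by
          rw [← hn]
          exact Fintype.card_subtype_lt (x := y) hy
        have hc2 : Fintype.card {z // ¬ p z} < n := by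
          rw [← hn]
          exact Fintype.card_subtype_lt (x := x) (fun h1 => h1 (Or.inl (Perm.SameCycle.refl _ _)))
        have i1 := ih _ hc1 rfl (h.sub p hσ hm)
        have i2 := ih _ hc2 rfl (h.sub (fun z => ¬ p z) (fun z => not_congr (hσ z)) hm')
        have hs := Mt.split (b := b) p hm hm'
        have hd := h.disj p hm hm'
        have hcard : Fintype.card {z // p z} + Fintype.card {z // ¬ p z} = Fintype.card ι := by
          have h1 := Fintype.card_subtype_compl p
          have h2 := Fintype.card_subtype_le p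
          omega
        rw [cyc_split hq σ p hσ, hs, card_union_of_disjoint hd, ← hcard]
        have hB := bsum_union hd (h.sub p hσ hm).stab
          (h.sub (fun z => ¬ p z) (fun z => not_congr (hσ z)) hm').stab q
        calc _ ≤ (_ * _) * (_ * _) := Nat.mul_le_mul_right _ hB
          _ = (_ * _) * (_ * _) := by rw [mul_mul_mul_comm]
          _ ≤ _ := Nat.mul_le_mul i1 i2
          _ = _ := by rw [← pow_add]; congr 1; ring

end Cfsg.Agent.H255.RG
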