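import Mathlib

/-!
# A quadratic form on a matching (helper255, S3509 F5)
-/

set_option autoImplicit false

namespace Cfsg.Agent.H255.RG

open Finset

theorem sq_cases {ι : Type*} [Fintype ι] [DecidableEq ι] {μ : ι → ι} (hμ : ∀ i, μ (μ i) = i) {m : ι → ℤ}
    (hm : ∀ i, 0 ≤ m i) (hT : (∑ i, m i * (2 * m i - if μ i = i then 0 else m (μ i))) = 2) :
    (∃ i, m = Pi.single i 1) ∨ ∃ i, μ i ≠ i ∧ m = Pi.single i 1 + Pi.single (μ i) 1 := by
  set c : ι → ℤ := fun i => if μ i = i then 0 else m (μ i) with hc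
  set s : ι → ℤ := fun i => m i ^ 2 + m (μ i) ^ 2 - c i * m i with hs
  have hS : ∑ i, s i = 2 := by
    rw [← hT]
    have h1 : ∑ i, m (μ i) ^ 2 = ∑ i, m i ^ 2 :=
      Equiv.sum_comp (⟨μ, μ, hμ, hμ⟩ : ι ≃ ι) fun i => m i ^ 2
    have h2 : ∑ i, s i = ∑ i, m i ^ 2 + ∑ i, m (μ i) ^ 2 - ∑ i, c i * m i := by
      rw [← sum_add_distrib, ← sum_sub_distrib]
    rw [h2, h1, ← sum_add_distrib, ← sum_sub_distrib]
    refine sum_congr rfl fun i _ => ?_
    show m i ^ 2 + m i ^ 2 - c i * m i = m i * (2 * m i - c i)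
    ring
  have hs1 : ∀ i, μ i = i → s i = 2 * m i ^ 2 := by
    intro i hi
    show m i ^ 2 + m (μ i) ^ 2 - (if μ i = i then 0 else m (μ i)) * m i = _
    rw [if_pos hi, hi]
    ring
  have hs2 : ∀ i, μ i ≠ i → s i = m i ^ 2 + m (μ i) ^ 2 - m (μ i) * m i := by
    intro i hi
    show m i ^ 2 + m (μ i) ^ 2 - (if μ i = i then 0 else m (μ i)) * m i = _
    rw [if_neg hi]
  have hs0 : ∀ i, 0 ≤ s i := by
    intro i
    by_cases hi : μ i = i
    · rw [hs1 i hi]; positivity
    · rw [hs2 i hi]; nlinarith [sq_nonneg (m i - m (μ i)), sq_nonneg (m i), sq_nonneg (m (μ i))]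
  have hz : ∀ i, s i = 0 → m i = 0 := by
    intro i h0
    by_cases hi : μ i = i
    · rw [hs1 i hi] at h0
      nlinarith [sq_nonneg (m i), hm i]
    · rw [hs2 i hi] at h0
      have h1 : m i ^ 2 ≤ 0 := by nlinarith [sq_nonneg (m i - 2 * m (μ i)), sq_nonneg (m i), sq_nonneg (m (μ i))]
      exact pow_eq_zero_iff (two_ne_zero) |>.1 (le_antisymm h1 (sq_nonneg _))
  have hex : ∃ i, 1 ≤ m i := by
    by_contra hcon
    push Not at hcon
    have h0 : ∀ i, m i = 0 := fun i => le_antisymm (by have := hcon i; omega) (hm i)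
    rw [sum_eq_zero fun i _ => by rw [h0 i, zero_mul]] at hT
    omega
  obtain ⟨i, hi⟩ := hex
  by_cases hμi : μ i = i
  · left
    refine ⟨i, ?_⟩
    have h1 := add_sum_erase univ s (mem_univ i)
    rw [hS, hs1 i hμi] at h1
    have h2 : 0 ≤ ∑ j ∈ univ.erase i, s j := sum_nonneg fun j _ => hs0 j
    have h3 : m i = 1 := by nlinarith
    have h4 : ∑ j ∈ univ.erase i, s j = 0 := by rw [h3] at h1; linarith
    have h5 := (sum_eq_zero_iff_of_nonneg fun j _ => hs0 j).1 h4
    funext j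
    by_cases hj : j = i
    · subst hj; rw [Pi.single_eq_same, h3]
    · rw [Pi.single_eq_of_ne hj, hz j (h5 j (mem_erase.2 ⟨hj, mem_univ j⟩))]
  · have h1 := add_sum_erase univ s (mem_univ i)
    have hmem : μ i ∈ univ.erase i := mem_erase.2 ⟨hμi, mem_univ _⟩
    have h1' := add_sum_erase (univ.erase i) s hmem
    have hμi' : μ (μ i) ≠ μ i := by rw [hμ]; exact fun h => hμi h.symm
    have h2 : 0 ≤ ∑ j ∈ (univ.erase i).erase (μ i), s j := sum_nonneg fun j _ => hs0 j
    have e1 := hs2 i hμi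
    have e2 : s (μ i) = s i := by rw [hs2 _ hμi', hμ, e1]; ring
    rw [e2] at h1'
    rw [hS] at h1
    have h0 := hm (μ i)
    have h3 : s i ≤ 1 := by linarith
    rw [e1] at h3
    have h4 : 1 ≤ s i := by
      rcases (hs0 i).lt_or_eq with h | h
      · omega
      · have := hz i h.symm
        omega
    have h6 : s i = 1 := le_antisymm (by rw [e1]; exact h3) h4
    have h7 : ∑ j ∈ (univ.erase i).erase (μ i), s j = 0 := by linarith
    have h5 := (sum_eq_zero_iff_of_nonneg fun j _ => hs0 j).1 h7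
    have h8 : m i = 1 := by
      rw [e1] at h6
      nlinarith [sq_nonneg (m i - 2 * m (μ i)), sq_nonneg (m i), sq_nonneg (m (μ i))]
    have h9 : m (μ i) = 0 ∨ m (μ i) = 1 := by
      rw [e1, h8] at h6
      have : m (μ i) * (m (μ i) - 1) = 0 := by linarith [sq (m (μ i))]
      rcases mul_eq_zero.1 this with h | h
      · exact Or.inl h
      · exact Or.inr (by linarith)
    have h10 : ∀ j, j ≠ i → j ≠ μ i → m j = 0 := fun j hj hj' =>
      hz j (h5 j (mem_erase.2 ⟨hj', mem_erase.2 ⟨hj, mem_univ j⟩⟩))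
    rcases h9 with h9 | h9
    · left
      refine ⟨i, ?_⟩
      funext j
      by_cases hj : j = i
      · subst hj; rw [Pi.single_eq_same, h8]
      · rw [Pi.single_eq_of_ne hj]
        by_cases hj' : j = μ i
        · rw [hj', h9]
        · exact h10 j hj hj'
    · right
      refine ⟨i, hμi, ?_⟩
      funext j
      rw [Pi.add_apply]
      by_cases hj : j = i
      · subst hj
        rw [Pi.single_eq_same, Pi.single_eq_of_ne (Ne.symm hμi), h8, add_zero]
      · rw [Pi.single_eq_of_ne hj, zero_add]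
        by_cases hj' : j = μ i
        · rw [hj', Pi.single_eq_same, h9]
        · rw [Pi.single_eq_of_ne hj', h10 j hj hj']

/-- coefficients -/
theorem lin_eq {ι V : Type*} [Fintype ι] [AddCommGroup V] {b : ι → V} (hb : LinearIndependent ℤ b) {f g : ι → ℤ}
    (h : ∑ i, f i • b i = ∑ i, g i • b i) (i : ι) : f i = g i := by
  have h1 := Fintype.linearIndependent_iff.1 hb (fun i => f i - g i) (by
    simp only [sub_smul]
    rw [sum_sub_distrib, h, sub_self]) i
  have h2 : f i - g i = 0 := h1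
  omega

theorem sum_single {ι V : Type*} [Fintype ι] [DecidableEq ι] [AddCommGroup V] (b : ι → V) (i : ι) :
    ∑ j, (Pi.single i 1 : ι → ℤ) j • b j = b i := by
  rw [Finset.sum_eq_single i]
  · rw [Pi.single_eq_same, one_smul]
  · intro j _ hj
    rw [Pi.single_eq_of_ne hj, zero_smul]
  · intro h
    exact absurd (mem_univ i) h

theorem sum_single2 {ι V : Type*} [Fintype ι] [DecidableEq ι] [AddCommGroup V] (b : ι → V) (i i' : ι) :
    ∑ j, (Pi.single i 1 + Pi.single i' 1 : ι → ℤ) j • b j = b i + b i' := by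
  simp only [Pi.add_apply, add_smul]
  rw [sum_add_distrib, sum_single, sum_single]

end Cfsg.Agent.H255.RG
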