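import Cfsg.Agent.H931.KC.Theta
import Cfsg.Agent.H255.RG.Mat
import Cfsg.Agent.H255.RG.Sq

/-!
# The base of the centraliser, components of rank at most two (helper255, S3509 F5)

`t` in the torus, Kac coordinates `c`, `c0`, `J = {j | ct c c0 j = 0}` the nodes of the base of the centraliser, every node of `J` is
linked to at most one other node of `J`:

* `linInd_al` : a proper part of the extended base is linearly independent;
* `pos_cases` : the positive roots are `al i` and `al i + al (μ i)`;
* `exists_mt` : the data `Mt` of the product inequality.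
-/

set_option autoImplicit false
set_option linter.unusedSectionVars false

namespace Cfsg.Agent.H255.RG

open CoxeterSystem Cfsg Cfsg.Lie Cfsg.Lie.ChevalleyDatum
open Cfsg.Agent.ChevalleyStructure Cfsg.Agent.ChevalleyStructure.Elts Cfsg.Agent.ChevalleyStructure.CoxeterGeom
  Cfsg.Agent.ChevalleyStructure.CoxeterGeomTypes Cfsg.Agent.ChevalleyStructure.NPerm
open Cfsg.Agent.Tits.Roots Cfsg.Agent.Tits.Core Cfsg.Agent.Nodes Cfsg.Agent.Nodes.Reps Cfsg.Agent.Nodes.BNOf
  Cfsg.Agent.Nodes.RGDChev Cfsg.Agent.Nodes.Bruhat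
open Cfsg.Agent.KFacts.RgdField Cfsg.Agent.KFacts.RgdChevCoord Cfsg.Agent.BpExc.TorCent Cfsg.Agent.BpExc.TorChev
open Cfsg.Agent.H129.TorusChar Cfsg.Agent.H129.WData
open Cfsg.Agent.H92.NE (bl bl_comm FormOK bl_rep bl_root)
open Cfsg.Agent.H931.KC

universe u

variable {D : ChevalleyDatum} {l : ℕ} {M : CoxeterMatrix (Fin l)} (hp : IsType D l M)

/-- the check for the form on the extended base -/
def EF (D : ChevalleyDatum) (l : ℕ) (Bm : Mat l) : Prop :=
  FormOK D l Bm ∧ (∀ i, Bm i i = 2) ∧ ∀ i j : Option (Fin l), i ≠ j → bl Bm (al D l i) (al D l j) = 0 ∨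
    ∃ r : Fin D.nroots, vec D l r = al D l i + al D l j

instance (D : ChevalleyDatum) (l : ℕ) (Bm : Mat l) : Decidable (EF D l Bm) := by unfold EF; infer_instance

theorem sum_sub {ι V : Type*} [Fintype ι] [AddCommMonoid V] (p : ι → Prop) [DecidablePred p] (f : ι → V)
    (hf : ∀ i, ¬ p i → f i = 0) : ∑ i, f i = ∑ i : {i // p i}, f i := by
  rw [← Fintype.sum_subtype_add_sum_subtype p f, Finset.sum_eq_zero (s := (Finset.univ : Finset {x // ¬ p x}))
    (fun i _ => hf i i.2), add_zero]

include hp in
/-- a proper part of the extended base is linearly independent -/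
theorem linInd_al {p : Option (Fin l) → Prop} [DecidablePred p] {j₀ : Option (Fin l)} (hj₀ : ¬ p j₀) :
    LinearIndependent ℤ (fun j : {j // p j} => al D l j) := by
  rw [Fintype.linearIndependent_iff]
  intro g hg
  set G : Option (Fin l) → ℤ := fun j => if h : p j then g ⟨j, h⟩ else 0 with hG
  have hGp : ∀ j : {j // p j}, G j = g j := fun j => by rw [hG]; exact dif_pos j.2
  have hGn : ∀ j, ¬ p j → G j = 0 := fun j hj => by rw [hG]; exact dif_neg hj
  have h1 : ∑ j, G j • al D l j = 0 := by
    rw [sum_sub p _ fun j hj => by rw [hGn j hj, zero_smul], ← hg]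
    exact Finset.sum_congr rfl fun j _ => by rw [hGp]
  have h2 : ∀ i, G (some i) = G none * hr D l i := by
    intro i
    have h3 := congrFun h1 i
    rw [Fintype.sum_option, Pi.add_apply, Finset.sum_apply, Finset.sum_eq_single i] at h3
    · have h4 : G none * (-hr D l i) + G (some i) * (sr i : Fin l → ℤ) i = 0 := h3
      rw [sr_self] at h4
      linarith
    · intro j _ hj
      show G (some j) * (sr j : Fin l → ℤ) i = 0
      rw [sr_ne (Ne.symm hj), mul_zero]
    · intro h
      exact absurd (Finset.mem_univ i) h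
  have h0 : G none = 0 := by
    cases j₀ with
    | none => exact hGn _ hj₀
    | some i =>
      have h3 := h2 i
      rw [hGn _ hj₀] at h3
      have h4 : 0 < hr D l i := mk_pos hp (some i)
      exact (mul_eq_zero.1 h3.symm).resolve_right h4.ne'
  intro j
  rw [← hGp]
  rcases hj : (j : Option (Fin l)) with _ | i
  · exact h0
  · rw [h2, h0, zero_mul]

include hp in
theorem isRoot_al (j : Option (Fin l)) : IsRoot M.toCoxeterSystem hp.isCartan (al D l j) := by
  cases j with
  | none =>
    obtain ⟨Bm, hv, v, C, H⟩ := exists_ok hp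
    exact (isRoot_hr hp H).neg
  | some i => exact isRoot_sr _ _ i

section form

variable {Bm : Mat l} (E : EF D l Bm)

include hp E

theorem bl_of_add {a b : Fin l → ℤ} (ha : IsRoot M.toCoxeterSystem hp.isCartan a)
    (hb : IsRoot M.toCoxeterSystem hp.isCartan b) (hab : IsRoot M.toCoxeterSystem hp.isCartan (a + b)) :
    bl Bm a b = -1 := by
  have h1 := bl_root hp E.1 E.2.1 hab
  rw [map_add, bl_comm E.1.1 a (a + b), bl_comm E.1.1 b (a + b), map_add, map_add, bl_root hp E.1 E.2.1 ha,
    bl_root hp E.1 E.2.1 hb, bl_comm E.1.1 a b] at h1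
  linarith

/-- the values on the extended base -/
theorem bl_al {i j : Option (Fin l)} (hij : i ≠ j) :
    bl Bm (al D l i) (al D l j) = 0 ∨ IsRoot M.toCoxeterSystem hp.isCartan (al D l i + al D l j) := by
  rcases E.2.2 i j hij with h | ⟨r, hr⟩
  · exact Or.inl h
  · exact Or.inr ((isRoot_iff hp _ _).2 ⟨r, r.2, hr⟩)

/-- **The positive roots.** -/
theorem pos_cases {p : Option (Fin l) → Prop} [DecidablePred p] {μ : {j // p j} → {j // p j}} (hμ : ∀ i, μ (μ i) = i)
    (hadj : ∀ i j : {j // p j}, IsRoot M.toCoxeterSystem hp.isCartan (al D l i + al D l j) → j = μ i)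
    (hadj' : ∀ i, μ i ≠ i → IsRoot M.toCoxeterSystem hp.isCartan (al D l i + al D l (μ i)))
    {x : Fin l → ℤ} (hx : IsRoot M.toCoxeterSystem hp.isCartan x) {m : Option (Fin l) → ℤ} (hm0 : ∀ j, 0 ≤ m j)
    (hmJ : ∀ j, m j ≠ 0 → p j) (hxm : x = ∑ j, m j • al D l j) :
    (∃ i : {j // p j}, al D l i = x) ∨ ∃ i : {j // p j}, μ i ≠ i ∧ al D l i + al D l (μ i) = x := by
  have hx1 : x = ∑ j : {j // p j}, m j • al D l j := by
    rw [hxm]
    refine sum_sub p _ fun j hj => ?_
    have : m j = 0 := by
      by_contra h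
      exact hj (hmJ j h)
    rw [this, zero_smul]
  have hf : ∀ i j : {j // p j}, bl Bm (al D l i) (al D l j) =
      (if j = i then 2 else 0) - (if μ i = i then 0 else if j = μ i then 1 else 0) := by
    intro i j
    by_cases hji : j = i
    · subst hji
      rw [if_pos rfl, bl_root hp E.1 E.2.1 (isRoot_al hp _)]
      by_cases hμj : μ j = j
      · rw [if_pos hμj, sub_zero]
      · rw [if_neg hμj, if_neg (Ne.symm hμj), sub_zero]
    · rw [if_neg hji]
      have hne : (i : Option (Fin l)) ≠ j := fun h => hji (Subtype.ext h.symm)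
      by_cases hjμ : j = μ i
      · have hμi : μ i ≠ i := fun h => hji (hjμ.trans h)
        rw [if_neg hμi, if_pos hjμ, hjμ, bl_of_add hp E (isRoot_al hp _) (isRoot_al hp _) (hadj' i hμi)]
        rfl
      · rcases bl_al hp E hne with h | h
        · rw [h, if_neg hjμ]
          by_cases hμi : μ i = i
          · rw [if_pos hμi, sub_zero]
          · rw [if_neg hμi, sub_zero]
        · exact absurd (hadj i j h) hjμ
  have hrow : ∀ i : {j // p j}, bl Bm (al D l i) x = 2 * m i - if μ i = i then 0 else m (μ i) := by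
    intro i
    rw [hx1, map_sum]
    have e : ∀ j : {j // p j}, bl Bm (al D l i) (m j • al D l j) =
        (if j = i then 2 * m i else 0) - (if μ i = i then 0 else if j = μ i then m (μ i) else 0) := by
      intro j
      rw [map_zsmul, smul_eq_mul, hf]
      by_cases hji : j = i
      · subst hji
        rw [if_pos rfl, if_pos rfl]
        by_cases hμj : μ j = j
        · rw [if_pos hμj, if_pos hμj]; ring
        · rw [if_neg hμj, if_neg hμj, if_neg (Ne.symm hμj), if_neg (Ne.symm hμj)]; ring
      · rw [if_neg hji, if_neg hji]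
        by_cases hμi : μ i = i
        · rw [if_pos hμi, if_pos hμi]; ring
        · rw [if_neg hμi, if_neg hμi]
          by_cases hjμ : j = μ i
          · rw [if_pos hjμ, if_pos hjμ, hjμ]; ring
          · rw [if_neg hjμ, if_neg hjμ]; ring
    rw [Finset.sum_congr rfl fun j _ => e j, Finset.sum_sub_distrib, Finset.sum_ite_eq' Finset.univ i,
      if_pos (Finset.mem_univ _)]
    congr 1
    by_cases hμi : μ i = i
    · simp only [if_pos hμi, Finset.sum_const_zero]
    · simp only [if_neg hμi]
      rw [Finset.sum_ite_eq' Finset.univ (μ i), if_pos (Finset.mem_univ _)]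
  have hT : (∑ i : {j // p j}, m i * (2 * m i - if μ i = i then 0 else m (μ i))) = 2 := by
    have h3 : ∀ y, bl Bm y x = ∑ i : {j // p j}, m i * bl Bm y (al D l i) := by
      intro y
      conv_lhs => rw [hx1]
      rw [map_sum]
      exact Finset.sum_congr rfl fun i _ => by rw [map_zsmul, smul_eq_mul]
    have h4 : (∑ i : {j // p j}, (m i : ℤ) * bl Bm x (al D l i)) = 2 := by
      rw [← h3 x]
      exact bl_root hp E.1 E.2.1 hx
    refine Eq.trans (Finset.sum_congr rfl fun i _ => ?_) h4
    rw [← hrow i, bl_comm E.1.1]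
  rcases sq_cases (m := fun i : {j // p j} => m i) hμ (fun i => hm0 i) hT with ⟨i, hi⟩ | ⟨i, hi, hi'⟩
  · left
    refine ⟨i, ?_⟩
    rw [hx1, ← sum_single (fun j : {j // p j} => al D l j) i]
    exact Finset.sum_congr rfl fun j _ => by rw [← hi]
  · right
    refine ⟨i, hi, ?_⟩
    rw [hx1, ← sum_single2 (fun j : {j // p j} => al D l j) i (μ i)]
    exact Finset.sum_congr rfl fun j _ => by rw [← hi']

end form

variable {k : Type u} [Field k]

/-- every node is linked to at most one other node -/
def Deg (hp : IsType D l M) (p : Option (Fin l) → Prop) : Prop :=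
  ∀ i j j', p i → p j → p j' → IsRoot M.toCoxeterSystem hp.isCartan (al D l i + al D l j) →
    IsRoot M.toCoxeterSystem hp.isCartan (al D l i + al D l j') → j = j'

/-- **The data.** -/
theorem exists_mt {Bm : Mat l} (E : EF D l Bm) {t : ↥(D.group k)} {θ : (Fin l → ℤ) ≃+ (Fin l → ℤ)}
    (hg : ∀ a, IsRoot M.toCoxeterSystem hp.isCartan (θ a) ↔ IsRoot M.toCoxeterSystem hp.isCartan a)
    {n : ℕ} {w : M.Group} {c : Fin l → ℕ} {c0 : ℕ} (K : Kac D l n c c0)
    (hSJ : ∀ a, rep M.toCoxeterSystem hp.isCartan w a ∈ Sx M.toCoxeterSystem hp.isCartan (ch hp) t ∧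
        0 ≤ rep M.toCoxeterSystem hp.isCartan w a ↔ SJ hp n c a)
    {π : Equiv.Perm {j : Option (Fin l) // ct c c0 j = 0}}
    (hπ : ∀ j, θ (rep M.toCoxeterSystem hp.isCartan w (al D l j.1)) =
      rep M.toCoxeterSystem hp.isCartan w (al D l (π j).1)) (hdeg : Deg hp fun j => ct c c0 j = 0) :
    ∃ μ : {j : Option (Fin l) // ct c c0 j = 0} → {j : Option (Fin l) // ct c c0 j = 0},
      Mt (fun j : {j : Option (Fin l) // ct c c0 j = 0} => rep M.toCoxeterSystem hp.isCartan w (al D l j)) μ π θ ∧
      (∀ x, x ∈ PM (fun j : {j : Option (Fin l) // ct c c0 j = 0} => rep M.toCoxeterSystem hp.isCartan w (al D l j)) μ ↔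
        x ∈ Sx M.toCoxeterSystem hp.isCartan (ch hp) t ∧ 0 ≤ x) ∧
      LinearIndependent ℤ (fun j : {j : Option (Fin l) // ct c c0 j = 0} =>
        rep M.toCoxeterSystem hp.isCartan w (al D l j)) := by
  classical
  set b : {j : Option (Fin l) // ct c c0 j = 0} → (Fin l → ℤ) := fun j => rep M.toCoxeterSystem hp.isCartan w (al D l j)
    with hb
  -- a missing node
  obtain ⟨j₀, hj₀⟩ : ∃ j₀ : Option (Fin l), ¬ ct c c0 j₀ = 0 := by
    by_cases h0 : c0 = 0
    · obtain ⟨i, hi⟩ := K.ne h0
      exact ⟨some i, hi⟩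
    · exact ⟨none, h0⟩
  have hlin0 := linInd_al (D := D) hp (p := fun j => ct c c0 j = 0) hj₀
  have hinj := rep_injective_apply M.toCoxeterSystem hp.isCartan w
  have hlin : LinearIndependent ℤ b := by
    have := hlin0.map' (rep M.toCoxeterSystem hp.isCartan w) (LinearMap.ker_eq_bot.2 hinj)
    exact this
  have hroot : ∀ x, IsRoot M.toCoxeterSystem hp.isCartan (rep M.toCoxeterSystem hp.isCartan w x) ↔
      IsRoot M.toCoxeterSystem hp.isCartan x := by
    intro x
    constructor
    · intro h
      have := h.act w⁻¹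
      rwa [rep_inv_apply] at this
    · exact fun h => h.act w
  -- the matching
  let μ : {j : Option (Fin l) // ct c c0 j = 0} → {j : Option (Fin l) // ct c c0 j = 0} := fun i =>
    if h : ∃ j : {j : Option (Fin l) // ct c c0 j = 0}, IsRoot M.toCoxeterSystem hp.isCartan (al D l i + al D l j)
      then h.choose else i
  have hadj : ∀ i j : {j : Option (Fin l) // ct c c0 j = 0},
      IsRoot M.toCoxeterSystem hp.isCartan (al D l i + al D l j) → j = μ i := by
    intro i j hij
    have h : ∃ j : {j : Option (Fin l) // ct c c0 j = 0}, IsRoot M.toCoxeterSystem hp.isCartan (al D l i + al D l j) :=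
      ⟨j, hij⟩
    show j = if h : _ then _ else i
    rw [dif_pos h]
    exact Subtype.ext (hdeg i j h.choose i.2 j.2 h.choose.2 hij h.choose_spec)
  have hnot : ∀ i : {j : Option (Fin l) // ct c c0 j = 0}, ¬ (∃ j : {j : Option (Fin l) // ct c c0 j = 0},
      IsRoot M.toCoxeterSystem hp.isCartan (al D l i + al D l j)) → μ i = i := by
    intro i h
    show (if h : _ then _ else i) = i
    rw [dif_neg h]
  have hadj' : ∀ i, μ i ≠ i → IsRoot M.toCoxeterSystem hp.isCartan (al D l i + al D l (μ i)) := by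
    intro i hi
    by_cases h : ∃ j : {j : Option (Fin l) // ct c c0 j = 0}, IsRoot M.toCoxeterSystem hp.isCartan (al D l i + al D l j)
    · obtain ⟨j, hj⟩ := h
      rw [← hadj i j hj]
      exact hj
    · exact absurd (hnot i h) hi
  have hnd : ∀ i : {j : Option (Fin l) // ct c c0 j = 0},
      ¬ IsRoot M.toCoxeterSystem hp.isCartan (al D l i + al D l i) := by
    intro i hi
    have h1 := bl_of_add hp E (isRoot_al hp _) (isRoot_al hp _) hi
    rw [bl_root hp E.1 E.2.1 (isRoot_al hp _)] at h1
    omega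
  have hmm : ∀ i, μ (μ i) = i := by
    intro i
    by_cases h : ∃ j : {j : Option (Fin l) // ct c c0 j = 0}, IsRoot M.toCoxeterSystem hp.isCartan (al D l i + al D l j)
    · obtain ⟨j, hj⟩ := h
      rw [← hadj i j hj]
      rw [add_comm] at hj
      exact (hadj j i hj).symm
    · rw [hnot i h, hnot i h]
  -- the positive roots
  have hbS : ∀ j, b j ∈ Sx M.toCoxeterSystem hp.isCartan (ch hp) t ∧ 0 ≤ b j := fun j =>
    (hSJ _).2 (SJ_al hp K j.2)
  have hPM : ∀ x, x ∈ PM b μ ↔ x ∈ Sx M.toCoxeterSystem hp.isCartan (ch hp) t ∧ 0 ≤ x := by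
    intro x
    rw [mem_PM]
    constructor
    · rintro (⟨i, rfl⟩ | ⟨i, hi, rfl⟩)
      · exact hbS i
      · have h1 := hadj' i hi
        have h2 : b i + b (μ i) = rep M.toCoxeterSystem hp.isCartan w (al D l i + al D l (μ i)) := (map_add _ _ _).symm
        rw [h2, hSJ]
        have h3 : (n : ℤ) ∣ bb c (al D l i + al D l (μ i)) := by
          rw [map_add]
          exact dvd_add (SJ_dvd hp K (SJ_al hp K i.2)) (SJ_dvd hp K (SJ_al hp K (μ i).2))
        rcases (dvd_iff_SJ hp K h1).1 h3 with h4 | h4
        · exact h4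
        · exfalso
          have h5 := ((hSJ _).2 h4).2
          rw [map_neg, ← h2] at h5
          refine ((h1.act w).not_pos_neg ?_ ?_)
          · rw [← h2]
            exact add_nonneg (hbS i).2 (hbS _).2
          · rw [← h2]
            exact neg_nonneg.1 h5
    · rintro hx
      have hx1 : IsRoot M.toCoxeterSystem hp.isCartan (rep M.toCoxeterSystem hp.isCartan w⁻¹ x) := hx.1.1.act w⁻¹
      have hwx : rep M.toCoxeterSystem hp.isCartan w (rep M.toCoxeterSystem hp.isCartan w⁻¹ x) = x :=
        rep_apply_inv _ _ _ _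
      have h1 : SJ hp n c (rep M.toCoxeterSystem hp.isCartan w⁻¹ x) := by
        rw [← hSJ, hwx]
        exact hx
      obtain ⟨m, hm0, hmJ, hm⟩ := exists_coef hp K h1
      rcases pos_cases hp E hmm hadj hadj' hx1 hm0 hmJ hm with ⟨i, hi⟩ | ⟨i, hi, hi'⟩
      · left
        refine ⟨i, ?_⟩
        rw [hb]
        show rep M.toCoxeterSystem hp.isCartan w (al D l i) = x
        rw [hi, hwx]
      · right
        refine ⟨i, hi, ?_⟩
        show rep M.toCoxeterSystem hp.isCartan w (al D l i) + rep M.toCoxeterSystem hp.isCartan w (al D l (μ i)) = x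
        rw [← map_add, hi', hwx]
  refine ⟨μ, ⟨?_, ?_, ?_, hmm, fun i => hπ i, ?_⟩, hPM, hlin⟩
  · exact hlin.injective
  · intro i j hi hij
    have h1 := lin_eq (b := b) hlin (f := Pi.single i 1 + Pi.single (μ i) 1) (g := Pi.single j 1) (by
      rw [sum_single2, sum_single]
      exact hij)
    by_cases hj : j = i
    · have h2 := h1 (μ i)
      rw [hj, Pi.add_apply, Pi.single_eq_same, Pi.single_eq_of_ne hi] at h2
      omega
    · have h2 := h1 i
      rw [Pi.add_apply, Pi.single_eq_same, Pi.single_eq_of_ne (Ne.symm hj), Pi.single_eq_of_ne (Ne.symm hi)] at h2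
      omega
  · intro i j hi hj hij
    have h1 := lin_eq (b := b) hlin (f := Pi.single i 1 + Pi.single (μ i) 1) (g := Pi.single j 1 + Pi.single (μ j) 1) (by
      rw [sum_single2, sum_single2]
      exact hij) j
    by_contra hcon
    push Not at hcon
    rw [Pi.add_apply, Pi.add_apply, Pi.single_eq_same, Pi.single_eq_of_ne hcon.1, Pi.single_eq_of_ne hcon.2,
      Pi.single_eq_of_ne (Ne.symm hj)] at h1
    omega
  · intro i
    -- equivariance
    have hequi : ∀ i j : {j : Option (Fin l) // ct c c0 j = 0},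
        IsRoot M.toCoxeterSystem hp.isCartan (al D l (π i) + al D l (π j)) ↔
        IsRoot M.toCoxeterSystem hp.isCartan (al D l i + al D l j) := by
      intro i j
      rw [← hroot, map_add, ← hπ, ← hπ, ← map_add, hg, ← map_add, hroot]
    by_cases h : ∃ j : {j : Option (Fin l) // ct c c0 j = 0}, IsRoot M.toCoxeterSystem hp.isCartan (al D l i + al D l j)
    · obtain ⟨j, hj⟩ := h
      rw [← hadj i j hj]
      exact (hadj _ _ ((hequi i j).2 hj)).symm
    · rw [hnot i h]
      refine hnot _ ?_
      rintro ⟨j, hj⟩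
      refine h ⟨π.symm j, ?_⟩
      rw [← hequi, Equiv.apply_symm_apply]
      exact hj

end Cfsg.Agent.H255.RG
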