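import Cfsg.Agent.H255.RG.BaseK
import Cfsg.Agent.H255.RG.TriA

/-!
# The base of the centraliser, one component `A₃` (helper255, S3509 F5)

`Deg3 D l Bm p a₁ a₂ a₃` : the nodes of `p` are a path `a₁, a₂, a₃` and a matching; `exists_data3` : the data of the product
inequality from Kac coordinates.
-/

set_option autoImplicit false
set_option linter.unusedSectionVars false

namespace Cfsg.Agent.H255.RG

open CoxeterSystem Cfsg Cfsg.Lie Cfsg.Lie.ChevalleyDatum
open Cfsg.Agent.ChevalleyStructure Cfsg.Agent.ChevalleyStructure.Elts Cfsg.Agent.ChevalleyStructure.CoxeterGeom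
  Cfsg.Agent.ChevalleyStructure.CoxeterGeomTypes Cfsg.Agent.ChevalleyStructure.NPerm
open Cfsg.Agent.Tits.Roots Cfsg.Agent.Tits.Core Cfsg.Agent.Nodes Cfsg.Agent.Nodes.Reps Cfsg.Agent.Nodes.BNOf
  Cfsg.Agent.Nodes.RGDChev Cfsg.Agent.Nodes.Bruhat
open Cfsg.Agent.KFacts.RgdField Cfsg.Agent.KFacts.RgdChevCoord Cfsg.Agent.BpExc.TorCent Cfsg.Agent.BpExc.TorChev
open Cfsg.Agent.H129.TorusChar Cfsg.Agent.H129.WData
open Cfsg.Agent.H92.NE (bl bl_comm bl_sr FormOK bl_rep bl_root bl_add_left)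
open Cfsg.Agent.H931.KC Cfsg.Agent.H448.TorB

universe u

variable {D : ChevalleyDatum} {l : ℕ} {M : CoxeterMatrix (Fin l)} (hp : IsType D l M)

section form

variable {Bm : Mat l} (E : EF D l Bm)

include E in
theorem bl_sr_eq (i : Fin l) (z : Fin l → ℤ) : bl Bm (sr i) z = pairing (cartanOf D l) i z := by
  have h1 : 2 * bl Bm z (sr i) = Bm i i * pairing (cartanOf D l) i z := by
    rw [bl_sr]
    unfold pairing
    rw [Finset.mul_sum, Finset.mul_sum]
    refine Finset.sum_congr rfl fun j _ => ?_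
    rw [← mul_assoc, E.1.2 i j, mul_assoc]
  rw [E.2.1, bl_comm E.1.1] at h1
  linarith

include hp E in
/-- reflections -/
theorem isRoot_bl {x y : Fin l → ℤ} (hx : IsRoot M.toCoxeterSystem hp.isCartan x)
    (hy : IsRoot M.toCoxeterSystem hp.isCartan y) : IsRoot M.toCoxeterSystem hp.isCartan (x - bl Bm y x • y) := by
  obtain ⟨v, i, rfl⟩ := hy
  have h1 : IsRoot M.toCoxeterSystem hp.isCartan (rep M.toCoxeterSystem hp.isCartan v
      (rep M.toCoxeterSystem hp.isCartan (M.toCoxeterSystem.simple i) (rep M.toCoxeterSystem hp.isCartan v⁻¹ x))) :=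
    ((hx.act v⁻¹).act _).act v
  rw [rep_simple_eq, map_sub, map_zsmul, rep_apply_inv, ← bl_sr_eq E, ← bl_rep hp E.1 v, rep_apply_inv] at h1
  exact h1

include hp E in
theorem isRoot_add_bl {x y : Fin l → ℤ} (hx : IsRoot M.toCoxeterSystem hp.isCartan x)
    (hy : IsRoot M.toCoxeterSystem hp.isCartan y) (h : bl Bm y x = -1) :
    IsRoot M.toCoxeterSystem hp.isCartan (x + y) := by
  have h1 := isRoot_bl hp E hx hy
  rwa [h, neg_smul, one_smul, sub_neg_eq_add] at h1

/-- the form of a matching -/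
theorem form_eq (hs : ∀ i j, Bm i j = Bm j i) {κ : Type*} [Fintype κ] [DecidableEq κ] {β : κ → Fin l → ℤ} {μ : κ → κ}
    (hf : ∀ i j, bl Bm (β i) (β j) = (if j = i then 2 else 0) - (if μ i = i then 0 else if j = μ i then 1 else 0))
    (m : κ → ℤ) : bl Bm (∑ j, m j • β j) (∑ j, m j • β j) = ∑ i, m i * (2 * m i - if μ i = i then 0 else m (μ i)) := by
  set x := ∑ j, m j • β j with hx
  have hrow : ∀ i, bl Bm (β i) x = 2 * m i - if μ i = i then 0 else m (μ i) := by
    intro i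
    rw [hx, map_sum]
    have e : ∀ j, bl Bm (β i) (m j • β j) =
        (if j = i then 2 * m i else 0) - (if μ i = i then 0 else if j = μ i then m (μ i) else 0) := by
      intro j
      rw [map_zsmul, smul_eq_mul, hf]
      by_cases hji : j = i
      · subst hji
        rw [if_pos rfl, if_pos rfl]
        by_cases hμj : μ j = j
        · rw [if_pos hμj, if_pos hμj]; ring
        · rw [if_neg hμj, if_neg hμj, if_neg (Ne.symm hμj), if_neg (Ne.symm hμj)]; ring
      · rw [if_neg hji, if_neg hji]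
        by_cases hμi : μ i = i
        · rw [if_pos hμi, if_pos hμi]; ring
        · rw [if_neg hμi, if_neg hμi]
          by_cases hjμ : j = μ i
          · rw [if_pos hjμ, if_pos hjμ, hjμ]; ring
          · rw [if_neg hjμ, if_neg hjμ]; ring
    rw [Finset.sum_congr rfl fun j _ => e j, Finset.sum_sub_distrib, Finset.sum_ite_eq' Finset.univ i,
      if_pos (Finset.mem_univ _)]
    congr 1
    by_cases hμi : μ i = i
    · simp only [if_pos hμi, Finset.sum_const_zero]
    · simp only [if_neg hμi]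
      rw [Finset.sum_ite_eq' Finset.univ (μ i), if_pos (Finset.mem_univ _)]
  have h3 : ∀ y, bl Bm y x = ∑ i, m i * bl Bm y (β i) := by
    intro y
    conv_lhs => rw [hx]
    rw [map_sum]
    exact Finset.sum_congr rfl fun i _ => by rw [map_zsmul, smul_eq_mul]
  rw [h3 x]
  refine Finset.sum_congr rfl fun i _ => ?_
  rw [← hrow i, bl_comm hs]

end form

/-- the quadratic form of a matching is positive definite -/
theorem sq_pos {ι : Type*} [Fintype ι] [DecidableEq ι] {μ : ι → ι} (hμ : ∀ i, μ (μ i) = i) (m : ι → ℤ) :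
    0 ≤ (∑ i, m i * (2 * m i - if μ i = i then 0 else m (μ i))) ∧
    ((∑ i, m i * (2 * m i - if μ i = i then 0 else m (μ i))) = 0 → ∀ i, m i = 0) := by
  set c : ι → ℤ := fun i => if μ i = i then 0 else m (μ i) with hc
  set s : ι → ℤ := fun i => m i ^ 2 + m (μ i) ^ 2 - c i * m i with hs
  have hS : ∑ i, s i = ∑ i, m i * (2 * m i - c i) := by
    have h1 : ∑ i, m (μ i) ^ 2 = ∑ i, m i ^ 2 :=
      Equiv.sum_comp (⟨μ, μ, hμ, hμ⟩ : ι ≃ ι) fun i => m i ^ 2
    have h2 : ∑ i, s i = ∑ i, m i ^ 2 + ∑ i, m (μ i) ^ 2 - ∑ i, c i * m i := by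
      rw [← Finset.sum_add_distrib, ← Finset.sum_sub_distrib]
    rw [h2, h1, ← Finset.sum_add_distrib, ← Finset.sum_sub_distrib]
    refine Finset.sum_congr rfl fun i _ => ?_
    ring
  have hs1 : ∀ i, μ i = i → s i = 2 * m i ^ 2 := by
    intro i hi
    show m i ^ 2 + m (μ i) ^ 2 - (if μ i = i then 0 else m (μ i)) * m i = _
    rw [if_pos hi, hi]
    ring
  have hs2 : ∀ i, μ i ≠ i → s i = m i ^ 2 + m (μ i) ^ 2 - m (μ i) * m i := by
    intro i hi
    show m i ^ 2 + m (μ i) ^ 2 - (if μ i = i then 0 else m (μ i)) * m i = _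
    rw [if_neg hi]
  have hs0 : ∀ i, 0 ≤ s i := by
    intro i
    by_cases hi : μ i = i
    · rw [hs1 i hi]; positivity
    · rw [hs2 i hi]; nlinarith [sq_nonneg (m i - m (μ i)), sq_nonneg (m i), sq_nonneg (m (μ i))]
  have hz : ∀ i, s i = 0 → m i = 0 := by
    intro i h0
    by_cases hi : μ i = i
    · rw [hs1 i hi] at h0
      have h1 : m i ^ 2 = 0 := by linarith
      exact pow_eq_zero_iff (two_ne_zero) |>.1 h1
    · rw [hs2 i hi] at h0
      have h1 : m i ^ 2 ≤ 0 := by nlinarith [sq_nonneg (m i - 2 * m (μ i)), sq_nonneg (m i), sq_nonneg (m (μ i))]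
      exact pow_eq_zero_iff (two_ne_zero) |>.1 (le_antisymm h1 (sq_nonneg _))
  constructor
  · rw [← hS]
    exact Finset.sum_nonneg fun i _ => hs0 i
  · intro h i
    rw [← hS] at h
    exact hz i ((Finset.sum_eq_zero_iff_of_nonneg fun j _ => hs0 j).1 h i (Finset.mem_univ i))

/-- the quadratic form of `A₃` -/
theorem three_cases {a b c : ℤ} (ha : 0 ≤ a) (hb : 0 ≤ b) (hc : 0 ≤ c)
    (h : a ^ 2 + b ^ 2 + c ^ 2 - a * b - b * c = 1) :
    (a = 1 ∧ b = 0 ∧ c = 0) ∨ (a = 0 ∧ b = 1 ∧ c = 0) ∨ (a = 0 ∧ b = 0 ∧ c = 1) ∨ (a = 1 ∧ b = 1 ∧ c = 0) ∨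
      (a = 0 ∧ b = 1 ∧ c = 1) ∨ (a = 1 ∧ b = 1 ∧ c = 1) := by
  have h1 : a ^ 2 + (a - b) ^ 2 + (b - c) ^ 2 + c ^ 2 = 2 := by linarith
  have ha1 : a ≤ 1 := by nlinarith [sq_nonneg (a - b), sq_nonneg (b - c), sq_nonneg c]
  have hc1 : c ≤ 1 := by nlinarith [sq_nonneg (a - b), sq_nonneg (b - c), sq_nonneg a]
  have hb1 : b ≤ 2 := by nlinarith [sq_nonneg (a - b), sq_nonneg (b - c), sq_nonneg a, sq_nonneg c]
  interval_cases a <;> interval_cases b <;> interval_cases c <;> simp_all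

/-- **The matching of a family of roots.** -/
theorem mk_mt {θ : (Fin l → ℤ) ≃+ (Fin l → ℤ)}
    (hg : ∀ a, IsRoot M.toCoxeterSystem hp.isCartan (θ a) ↔ IsRoot M.toCoxeterSystem hp.isCartan a)
    {κ : Type*} [Fintype κ] [DecidableEq κ] {β : κ → Fin l → ℤ} (hlin : LinearIndependent ℤ β)
    (hdeg : ∀ i j j', IsRoot M.toCoxeterSystem hp.isCartan (β i + β j) →
      IsRoot M.toCoxeterSystem hp.isCartan (β i + β j') → j = j')
    {π : Equiv.Perm κ} (hπ : ∀ j, θ (β j) = β (π j)) :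
    ∃ μ : κ → κ, Mt β μ π θ ∧ (∀ i j, IsRoot M.toCoxeterSystem hp.isCartan (β i + β j) → j = μ i) ∧
      ∀ i, μ i ≠ i → IsRoot M.toCoxeterSystem hp.isCartan (β i + β (μ i)) := by
  classical
  let μ : κ → κ := fun i =>
    if h : ∃ j, IsRoot M.toCoxeterSystem hp.isCartan (β i + β j) then h.choose else i
  have hadj : ∀ i j, IsRoot M.toCoxeterSystem hp.isCartan (β i + β j) → j = μ i := by
    intro i j hij
    have h : ∃ j, IsRoot M.toCoxeterSystem hp.isCartan (β i + β j) := ⟨j, hij⟩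
    show j = if h : _ then _ else i
    rw [dif_pos h]
    exact hdeg i j h.choose hij h.choose_spec
  have hnot : ∀ i, ¬ (∃ j, IsRoot M.toCoxeterSystem hp.isCartan (β i + β j)) → μ i = i := by
    intro i h
    show (if h : _ then _ else i) = i
    rw [dif_neg h]
  have hadj' : ∀ i, μ i ≠ i → IsRoot M.toCoxeterSystem hp.isCartan (β i + β (μ i)) := by
    intro i hi
    by_cases h : ∃ j, IsRoot M.toCoxeterSystem hp.isCartan (β i + β j)
    · obtain ⟨j, hj⟩ := h
      rw [← hadj i j hj]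
      exact hj
    · exact absurd (hnot i h) hi
  have hmm : ∀ i, μ (μ i) = i := by
    intro i
    by_cases h : ∃ j, IsRoot M.toCoxeterSystem hp.isCartan (β i + β j)
    · obtain ⟨j, hj⟩ := h
      rw [← hadj i j hj]
      rw [add_comm] at hj
      exact (hadj j i hj).symm
    · rw [hnot i h, hnot i h]
  refine ⟨μ, ⟨hlin.injective, ?_, ?_, hmm, fun i => hπ i, ?_⟩, hadj, hadj'⟩
  · intro i j hi hij
    have h1 := lin_eq (b := β) hlin (f := Pi.single i 1 + Pi.single (μ i) 1) (g := Pi.single j 1) (by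
      rw [sum_single2, sum_single]
      exact hij)
    by_cases hj : j = i
    · have h2 := h1 (μ i)
      rw [hj, Pi.add_apply, Pi.single_eq_same, Pi.single_eq_of_ne hi] at h2
      omega
    · have h2 := h1 i
      rw [Pi.add_apply, Pi.single_eq_same, Pi.single_eq_of_ne (Ne.symm hj), Pi.single_eq_of_ne (Ne.symm hi)] at h2
      omega
  · intro i j hi hj hij
    have h1 := lin_eq (b := β) hlin (f := Pi.single i 1 + Pi.single (μ i) 1) (g := Pi.single j 1 + Pi.single (μ j) 1) (by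
      rw [sum_single2, sum_single2]
      exact hij) j
    by_contra hcon
    push Not at hcon
    rw [Pi.add_apply, Pi.add_apply, Pi.single_eq_same, Pi.single_eq_of_ne hcon.1, Pi.single_eq_of_ne hcon.2,
      Pi.single_eq_of_ne (Ne.symm hj)] at h1
    omega
  · intro i
    have hequi : ∀ i j, IsRoot M.toCoxeterSystem hp.isCartan (β (π i) + β (π j)) ↔
        IsRoot M.toCoxeterSystem hp.isCartan (β i + β j) := by
      intro i j
      rw [← hπ, ← hπ, ← map_add, hg]
    by_cases h : ∃ j, IsRoot M.toCoxeterSystem hp.isCartan (β i + β j)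
    · obtain ⟨j, hj⟩ := h
      rw [← hadj i j hj]
      exact (hadj _ _ ((hequi i j).2 hj)).symm
    · rw [hnot i h]
      refine hnot _ ?_
      rintro ⟨j, hj⟩
      refine h ⟨π.symm j, ?_⟩
      rw [← hequi, Equiv.apply_symm_apply]
      exact hj

variable {k : Type u} [Field k]

/-- sums of positive roots of the centraliser -/
theorem sx_add {t : ↥(D.group k)} {n : ℕ} {w : M.Group} {c : Fin l → ℕ} {c0 : ℕ} (K : Kac D l n c c0)
    (hSJ : ∀ a, rep M.toCoxeterSystem hp.isCartan w a ∈ Sx M.toCoxeterSystem hp.isCartan (ch hp) t ∧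
        0 ≤ rep M.toCoxeterSystem hp.isCartan w a ↔ SJ hp n c a) {u v : Fin l → ℤ}
    (hu : u ∈ Sx M.toCoxeterSystem hp.isCartan (ch hp) t ∧ 0 ≤ u)
    (hv : v ∈ Sx M.toCoxeterSystem hp.isCartan (ch hp) t ∧ 0 ≤ v)
    (huv : IsRoot M.toCoxeterSystem hp.isCartan (u + v)) :
    u + v ∈ Sx M.toCoxeterSystem hp.isCartan (ch hp) t ∧ 0 ≤ u + v := by
  have e : ∀ x, rep M.toCoxeterSystem hp.isCartan w (rep M.toCoxeterSystem hp.isCartan w⁻¹ x) = x := fun x =>
    rep_apply_inv _ _ _ _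
  have h1 : SJ hp n c (rep M.toCoxeterSystem hp.isCartan w⁻¹ u) := by rw [← hSJ, e]; exact hu
  have h2 : SJ hp n c (rep M.toCoxeterSystem hp.isCartan w⁻¹ v) := by rw [← hSJ, e]; exact hv
  have h3 : IsRoot M.toCoxeterSystem hp.isCartan (rep M.toCoxeterSystem hp.isCartan w⁻¹ (u + v)) := huv.act _
  have h4 : (n : ℤ) ∣ bb c (rep M.toCoxeterSystem hp.isCartan w⁻¹ (u + v)) := by
    rw [map_add, map_add]
    exact dvd_add (SJ_dvd hp K h1) (SJ_dvd hp K h2)
  rcases (dvd_iff_SJ hp K h3).1 h4 with h5 | h5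
  · rw [← hSJ, e] at h5
    exact h5
  · exfalso
    have h6 := ((hSJ _).2 h5).2
    rw [map_neg, e, neg_nonneg] at h6
    exact huv.not_pos_neg (add_nonneg hu.2 hv.2) h6

/-- the three nodes -/
def In3 {l : ℕ} (a₁ a₂ a₃ j : Option (Fin l)) : Prop := j = a₁ ∨ j = a₂ ∨ j = a₃

instance {l : ℕ} (a₁ a₂ a₃ j : Option (Fin l)) : Decidable (In3 a₁ a₂ a₃ j) := by unfold In3; infer_instance

/-- linked nodes -/
def Lk (D : ChevalleyDatum) (l : ℕ) (Bm : Mat l) (i j : Option (Fin l)) : Prop := bl Bm (al D l i) (al D l j) = -1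

instance (D : ChevalleyDatum) (l : ℕ) (Bm : Mat l) (i j : Option (Fin l)) : Decidable (Lk D l Bm i j) := by
  unfold Lk; infer_instance

/-- the nodes of `p` outside `a₁, a₂, a₃` are not linked to these -/
def Out3 (D : ChevalleyDatum) (l : ℕ) (Bm : Mat l) (p : Option (Fin l) → Prop) (a₁ a₂ a₃ : Option (Fin l)) : Prop :=
  ∀ j, p j → ¬ In3 a₁ a₂ a₃ j → ¬ Lk D l Bm j a₁ ∧ ¬ Lk D l Bm j a₂ ∧ ¬ Lk D l Bm j a₃

instance (D : ChevalleyDatum) (l : ℕ) (Bm : Mat l) (p : Option (Fin l) → Prop) [DecidablePred p]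
    (a₁ a₂ a₃ : Option (Fin l)) : Decidable (Out3 D l Bm p a₁ a₂ a₃) := by unfold Out3; infer_instance

/-- the node `i` is linked to at most one node of `p` -/
def One (D : ChevalleyDatum) (l : ℕ) (Bm : Mat l) (p : Option (Fin l) → Prop) (i : Option (Fin l)) : Prop :=
  ∀ j, p j → ∀ j', p j' → Lk D l Bm i j → Lk D l Bm i j' → j = j'

instance (D : ChevalleyDatum) (l : ℕ) (Bm : Mat l) (p : Option (Fin l) → Prop) [DecidablePred p]
    (i : Option (Fin l)) : Decidable (One D l Bm p i) := by unfold One; infer_instance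

/-- the nodes of `p` are a path `a₁, a₂, a₃` and a matching -/
def Deg3 (D : ChevalleyDatum) (l : ℕ) (Bm : Mat l) (p : Option (Fin l) → Prop) (a₁ a₂ a₃ : Option (Fin l)) : Prop :=
  (p a₁ ∧ p a₂ ∧ p a₃) ∧ (a₁ ≠ a₂ ∧ a₂ ≠ a₃ ∧ a₁ ≠ a₃) ∧
  (Lk D l Bm a₁ a₂ ∧ Lk D l Bm a₂ a₃ ∧ ¬ Lk D l Bm a₁ a₃) ∧
  Out3 D l Bm p a₁ a₂ a₃ ∧ ∀ i, p i → ¬ In3 a₁ a₂ a₃ i → One D l Bm p i

instance (D : ChevalleyDatum) (l : ℕ) (Bm : Mat l) (p : Option (Fin l) → Prop) [DecidablePred p]
    (a₁ a₂ a₃ : Option (Fin l)) : Decidable (Deg3 D l Bm p a₁ a₂ a₃) := by unfold Deg3; infer_instance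

/-- six different roots -/
theorem tri_nodup {V ι : Type*} [AddCommGroup V] [Fintype ι] [DecidableEq ι] {b : ι → V} (hlin : LinearIndependent ℤ b)
    {x y z : ι} (hxy : x ≠ y) (hyz : y ≠ z) (hxz : x ≠ z) :
    ([b x, b y, b z, b x + b y, b y + b z, b x + b y + b z] : List V).Nodup := by
  have hinj : Function.Injective ![x, y, z] := by
    intro i j hij
    fin_cases i <;> fin_cases j
    · rfl
    · exact absurd hij hxy
    · exact absurd hij hxz
    · exact absurd hij (Ne.symm hxy)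
    · rfl
    · exact absurd hij hyz
    · exact absurd hij (Ne.symm hxz)
    · exact absurd hij (Ne.symm hyz)
    · rfl
  have h3 : LinearIndependent ℤ (fun i : Fin 3 => b (![x, y, z] i)) := hlin.comp _ hinj
  let φ : (Fin 3 → ℤ) → V := fun f => f 0 • b x + f 1 • b y + f 2 • b z
  have hφ : Function.Injective φ := by
    intro f g hfg
    funext i
    refine lin_eq h3 ?_ i
    rw [Fin.sum_univ_three, Fin.sum_univ_three]
    exact hfg
  have h4 : ([![1, 0, 0], ![0, 1, 0], ![0, 0, 1], ![1, 1, 0], ![0, 1, 1], ![1, 1, 1]] : List (Fin 3 → ℤ)).Nodup := by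
    decide
  have h5 := h4.map hφ
  simpa [φ] using h5

theorem tri_notMem {V ι : Type*} [AddCommGroup V] [DecidableEq V] [Fintype ι] [DecidableEq ι] {b : ι → V}
    (hlin : LinearIndependent ℤ b) {x y z : ι} (hxy : x ≠ y) (hyz : y ≠ z) (hxz : x ≠ z) (g : ι → ℤ) (hx : g x = 0)
    (hy : g y = 0) (hz : g z = 0) : ∑ i, g i • b i ∉ P3 (b x) (b y) (b z) := by
  rw [mem_P3]
  rintro (h | h | h | h | h | h)
  · rw [← sum_single b x] at h
    have := lin_eq hlin h x
    rw [Pi.single_eq_same] at this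
    omega
  · rw [← sum_single b y] at h
    have := lin_eq hlin h y
    rw [Pi.single_eq_same] at this
    omega
  · rw [← sum_single b z] at h
    have := lin_eq hlin h z
    rw [Pi.single_eq_same] at this
    omega
  · rw [← sum_single2 b x y] at h
    have := lin_eq hlin h x
    rw [Pi.add_apply, Pi.single_eq_same, Pi.single_eq_of_ne hxy] at this
    omega
  · rw [← sum_single2 b y z] at h
    have := lin_eq hlin h y
    rw [Pi.add_apply, Pi.single_eq_same, Pi.single_eq_of_ne hyz] at this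
    omega
  · have e : b x + b y + b z = ∑ i, (Pi.single x 1 + Pi.single y 1 + Pi.single z 1 : ι → ℤ) i • b i := by
      simp only [Pi.add_apply, add_smul]
      rw [Finset.sum_add_distrib, Finset.sum_add_distrib, sum_single, sum_single, sum_single]
    rw [e] at h
    have := lin_eq hlin h x
    rw [Pi.add_apply, Pi.add_apply, Pi.single_eq_same, Pi.single_eq_of_ne hxy, Pi.single_eq_of_ne hxz] at this
    omega

/-- **The classification of the positive roots.** -/
theorem tri_class {Bm : Mat l} (hs : ∀ i j, Bm i j = Bm j i) {ι : Type*} [Fintype ι] [DecidableEq ι]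
    {b : ι → Fin l → ℤ} (hself : ∀ i, bl Bm (b i) (b i) = 2) {x y z : ι} (hxy : x ≠ y) (hyz : y ≠ z) (hxz : x ≠ z)
    (kxy : bl Bm (b x) (b y) = -1) (kyz : bl Bm (b y) (b z) = -1) (kxz : bl Bm (b x) (b z) = 0)
    {A : ι → Prop} [DecidablePred A] (hA : ∀ i, A i ↔ i = x ∨ i = y ∨ i = z)
    (hAB : ∀ i, ¬ A i → bl Bm (b x) (b i) = 0 ∧ bl Bm (b y) (b i) = 0 ∧ bl Bm (b z) (b i) = 0)
    {μ : {i // ¬ A i} → {i // ¬ A i}} (hμ : ∀ i, μ (μ i) = i)
    (hf : ∀ i j : {i // ¬ A i}, bl Bm (b i) (b j) =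
      (if j = i then 2 else 0) - (if μ i = i then 0 else if j = μ i then 1 else 0))
    {m : ι → ℤ} (hm : ∀ i, 0 ≤ m i) {v : Fin l → ℤ} (h2 : bl Bm v v = 2) (hv : v = ∑ i, m i • b i) :
    v ∈ P3 (b x) (b y) (b z) ∪ PM (fun i : {i // ¬ A i} => b i) μ := by
  classical
  set y₀ : Fin l → ℤ := ∑ i : {i // ¬ A i}, m i • b i with hy₀
  set xA : Fin l → ℤ := m x • b x + m y • b y + m z • b z with hxA
  have hsplit : v = xA + y₀ := by
    rw [hv, ← Fintype.sum_subtype_add_sum_subtype A]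
    congr 1
    have h1 : ∑ i : {i // A i}, m i • b i = ∑ i ∈ ({x, y, z} : Finset ι), m i • b i := by
      symm
      exact Finset.sum_subtype _ (fun i => by simp [hA]) fun i => m i • b i
    rw [h1, Finset.sum_insert (by simp [hxy, hxz]), Finset.sum_insert (by simp [hyz]), Finset.sum_singleton, hxA, add_assoc]
  have hzero : ∀ u : Fin l → ℤ, (∀ i : {i // ¬ A i}, bl Bm u (b i) = 0) → bl Bm u y₀ = 0 := by
    intro u hu
    rw [hy₀, map_sum]
    exact Finset.sum_eq_zero fun i _ => by rw [map_zsmul, hu i, smul_zero]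
  have e1 : ∀ u : Fin l → ℤ, bl Bm u xA = m x * bl Bm u (b x) + m y * bl Bm u (b y) + m z * bl Bm u (b z) := by
    intro u
    rw [hxA, map_add, map_add, map_zsmul, map_zsmul, map_zsmul, smul_eq_mul, smul_eq_mul, smul_eq_mul]
  have kyx : bl Bm (b y) (b x) = -1 := by rw [bl_comm hs]; exact kxy
  have kzy : bl Bm (b z) (b y) = -1 := by rw [bl_comm hs]; exact kyz
  have kzx : bl Bm (b z) (b x) = 0 := by rw [bl_comm hs]; exact kxz
  have hTA : bl Bm xA xA = 2 * (m x ^ 2 + m y ^ 2 + m z ^ 2 - m x * m y - m y * m z) := by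
    rw [e1, bl_comm hs (b x) xA, bl_comm hs (b y) xA, bl_comm hs (b z) xA, e1, e1, e1, hself, hself, hself, kxy, kyx,
      kyz, kzy, kxz, kzx]
    ring
  have hAy : bl Bm xA y₀ = 0 := by
    rw [bl_comm hs, e1, bl_comm hs (b x) y₀, bl_comm hs (b y) y₀, bl_comm hs (b z) y₀,
      hzero _ fun i => (hAB i i.2).1, hzero _ fun i => (hAB i i.2).2.1, hzero _ fun i => (hAB i i.2).2.2]
    ring
  have hTB : bl Bm y₀ y₀ = ∑ i : {i // ¬ A i}, m i * (2 * m i - if μ i = i then 0 else m (μ i)) :=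
    form_eq hs (β := fun i : {i // ¬ A i} => b i) hf (fun i => m i)
  obtain ⟨hB0, hBz⟩ := sq_pos hμ (fun i : {i // ¬ A i} => m i)
  have htot : bl Bm xA xA + bl Bm y₀ y₀ = 2 := by
    have h6 : bl Bm (xA + y₀) (xA + y₀) = bl Bm xA xA + bl Bm y₀ y₀ := by
      rw [map_add, bl_add_left hs xA xA y₀, bl_add_left hs y₀ xA y₀, hAy, bl_comm hs xA y₀, hAy]
      ring
    rw [← h6, ← hsplit, h2]
  rw [hTA, hTB] at htot
  set TA := m x ^ 2 + m y ^ 2 + m z ^ 2 - m x * m y - m y * m z with hTAdef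
  have hTA0 : 0 ≤ TA := by
    rw [hTAdef]
    nlinarith [sq_nonneg (m x - m y), sq_nonneg (m y - m z), sq_nonneg (m x), sq_nonneg (m z)]
  have hTA1 : TA = 0 ∨ TA = 1 := by omega
  rw [Finset.mem_union]
  rcases hTA1 with h0 | h0
  · right
    have z1 : m x ^ 2 ≤ 0 := by
      rw [hTAdef] at h0
      nlinarith [sq_nonneg (m x - m y), sq_nonneg (m y - m z), sq_nonneg (m z)]
    have z2 : m z ^ 2 ≤ 0 := by
      rw [hTAdef] at h0
      nlinarith [sq_nonneg (m x - m y), sq_nonneg (m y - m z), sq_nonneg (m x)]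
    have mx : m x = 0 := pow_eq_zero_iff (two_ne_zero) |>.1 (le_antisymm z1 (sq_nonneg _))
    have mz : m z = 0 := pow_eq_zero_iff (two_ne_zero) |>.1 (le_antisymm z2 (sq_nonneg _))
    have my : m y = 0 := by
      rw [hTAdef, mx, mz] at h0
      have : m y ^ 2 = 0 := by linarith
      exact pow_eq_zero_iff (two_ne_zero) |>.1 this
    have hvy : v = y₀ := by rw [hsplit, hxA, mx, my, mz, zero_smul, zero_smul, zero_smul]; simp
    rw [h0, mul_zero, zero_add] at htot
    rw [mem_PM]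
    rcases sq_cases (m := fun i : {i // ¬ A i} => m i) hμ (fun i => hm i) htot with ⟨i, hi⟩ | ⟨i, hi, hi'⟩
    · left
      refine ⟨i, ?_⟩
      rw [hvy, hy₀, ← sum_single (fun j : {i // ¬ A i} => b j) i]
      exact Finset.sum_congr rfl fun j _ => by rw [← hi]
    · right
      refine ⟨i, hi, ?_⟩
      rw [hvy, hy₀, ← sum_single2 (fun j : {i // ¬ A i} => b j) i (μ i)]
      exact Finset.sum_congr rfl fun j _ => by rw [← hi']
  · left
    have hB : (∑ i : {i // ¬ A i}, m i * (2 * m i - if μ i = i then 0 else m (μ i))) = 0 := by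
      rw [h0] at htot; linarith
    have hy0 : y₀ = 0 := by
      rw [hy₀]
      exact Finset.sum_eq_zero fun i _ => by rw [hBz hB i, zero_smul]
    rw [hsplit, hy0, add_zero, hxA, mem_P3]
    rcases three_cases (hm x) (hm y) (hm z) h0 with ⟨h1, h2, h3⟩ | ⟨h1, h2, h3⟩ | ⟨h1, h2, h3⟩ | ⟨h1, h2, h3⟩ |
      ⟨h1, h2, h3⟩ | ⟨h1, h2, h3⟩ <;> rw [h1, h2, h3] <;> simp

/-- **The data of the product inequality.** -/
theorem exists_data3 {Bm : Mat l} (E : EF D l Bm) {t : ↥(D.group k)} {θ : (Fin l → ℤ) ≃+ (Fin l → ℤ)}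
    (hg : ∀ a, IsRoot M.toCoxeterSystem hp.isCartan (θ a) ↔ IsRoot M.toCoxeterSystem hp.isCartan a)
    {n : ℕ} {w : M.Group} {c : Fin l → ℕ} {c0 : ℕ} (K : Kac D l n c c0)
    (hSJ : ∀ a, rep M.toCoxeterSystem hp.isCartan w a ∈ Sx M.toCoxeterSystem hp.isCartan (ch hp) t ∧
        0 ≤ rep M.toCoxeterSystem hp.isCartan w a ↔ SJ hp n c a)
    {π : Equiv.Perm {j : Option (Fin l) // ct c c0 j = 0}}
    (hπ : ∀ j, θ (rep M.toCoxeterSystem hp.isCartan w (al D l j.1)) =
      rep M.toCoxeterSystem hp.isCartan w (al D l (π j).1))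
    {a₁ a₂ a₃ : Option (Fin l)} (hd : Deg3 D l Bm (fun j => ct c c0 j = 0) a₁ a₂ a₃) :
    ∃ P : Finset (Fin l → ℤ), (∀ x, x ∈ P ↔ x ∈ Sx M.toCoxeterSystem hp.isCartan (ch hp) t ∧ 0 ≤ x) ∧
      LinearIndependent ℤ (fun j : {j : Option (Fin l) // ct c c0 j = 0} =>
        rep M.toCoxeterSystem hp.isCartan w (al D l j)) ∧
      ∀ q, 2 ≤ q → bsum P θ q * cyc q π ≤ q ^ (P.card + Fintype.card {j : Option (Fin l) // ct c c0 j = 0}) := by
  classical
  obtain ⟨⟨p1, p2, p3⟩, ⟨n12, n23, n13⟩, ⟨k12, k23, k13⟩, hout, hdeg⟩ := hd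
  set b : {j : Option (Fin l) // ct c c0 j = 0} → (Fin l → ℤ) := fun j => rep M.toCoxeterSystem hp.isCartan w (al D l j)
    with hb
  obtain ⟨j₀, hj₀⟩ : ∃ j₀ : Option (Fin l), ¬ ct c c0 j₀ = 0 := by
    by_cases h0 : c0 = 0
    · obtain ⟨i, hi⟩ := K.ne h0
      exact ⟨some i, hi⟩
    · exact ⟨none, h0⟩
  have hlin0 := linInd_al (D := D) hp (p := fun j => ct c c0 j = 0) hj₀
  have hinj := rep_injective_apply M.toCoxeterSystem hp.isCartan w
  have hlin : LinearIndependent ℤ b := hlin0.map' (rep M.toCoxeterSystem hp.isCartan w) (LinearMap.ker_eq_bot.2 hinj)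
  have hF : ∀ i j, bl Bm (b i) (b j) = bl Bm (al D l i) (al D l j) := fun i j => bl_rep hp E.1 w _ _
  have hrb : ∀ i, IsRoot M.toCoxeterSystem hp.isCartan (b i) := fun i => (isRoot_al hp _).act w
  have hself : ∀ i, bl Bm (b i) (b i) = 2 := fun i => bl_root hp E.1 E.2.1 (hrb i)
  have hL : ∀ i j, IsRoot M.toCoxeterSystem hp.isCartan (b i + b j) ↔ Lk D l Bm i j := by
    intro i j
    constructor
    · intro h
      have h1 := bl_of_add hp E (hrb i) (hrb j) h
      rw [hF] at h1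
      exact h1
    · intro h
      refine isRoot_add_bl hp E (hrb i) (hrb j) ?_
      rw [bl_comm E.1.1, hF]
      exact h
  have hval : ∀ i j : {j : Option (Fin l) // ct c c0 j = 0}, i ≠ j → ¬ Lk D l Bm i j → bl Bm (b i) (b j) = 0 := by
    intro i j hij hk
    have hne : (i : Option (Fin l)) ≠ j := fun h => hij (Subtype.ext h)
    rcases bl_al hp E hne with h | h
    · rw [hF]; exact h
    · exact absurd (bl_of_add hp E (isRoot_al hp _) (isRoot_al hp _) h) hk
  have hLs : ∀ {i j : Option (Fin l)}, Lk D l Bm i j → Lk D l Bm j i := by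
    intro i j h
    show bl Bm _ _ = _
    rw [bl_comm E.1.1]
    exact h
  have hLself : ∀ i, ¬ Lk D l Bm i i := by
    intro i h
    have h1 : bl Bm (al D l i) (al D l i) = -1 := h
    rw [bl_root hp E.1 E.2.1 (isRoot_al hp _)] at h1
    omega
  set x : {j : Option (Fin l) // ct c c0 j = 0} := ⟨a₁, p1⟩ with hx
  set y : {j : Option (Fin l) // ct c c0 j = 0} := ⟨a₂, p2⟩ with hy
  set z : {j : Option (Fin l) // ct c c0 j = 0} := ⟨a₃, p3⟩ with hz
  have hxy : x ≠ y := fun h => n12 (congrArg Subtype.val h)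
  have hyz : y ≠ z := fun h => n23 (congrArg Subtype.val h)
  have hxz : x ≠ z := fun h => n13 (congrArg Subtype.val h)
  let A : {j : Option (Fin l) // ct c c0 j = 0} → Prop := fun i => i = x ∨ i = y ∨ i = z
  have hA3 : ∀ i, ¬ A i → ¬ In3 a₁ a₂ a₃ i := by
    intro i hi h
    rcases h with h | h | h
    · exact hi (Or.inl (Subtype.ext h))
    · exact hi (Or.inr (Or.inl (Subtype.ext h)))
    · exact hi (Or.inr (Or.inr (Subtype.ext h)))
  have hout' : ∀ i, ¬ A i → ¬ Lk D l Bm i x ∧ ¬ Lk D l Bm i y ∧ ¬ Lk D l Bm i z := fun i hi =>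
    hout i i.2 (hA3 i hi)
  have hone : ∀ i, ¬ A i → ∀ j j' : {j : Option (Fin l) // ct c c0 j = 0}, Lk D l Bm i j → Lk D l Bm i j' → j = j' :=
    fun i hi j j' h1 h2 => Subtype.ext (hdeg i i.2 (hA3 i hi) j j.2 j' j'.2 h1 h2)
  -- the action on the path
  have hE : ∀ i j, Lk D l Bm (π i) (π j) ↔ Lk D l Bm i j := by
    intro i j
    rw [← hL, ← hL, hb]
    show IsRoot M.toCoxeterSystem hp.isCartan (rep M.toCoxeterSystem hp.isCartan w (al D l (π i).1) +
      rep M.toCoxeterSystem hp.isCartan w (al D l (π j).1)) ↔ _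
    rw [← hπ, ← hπ, ← map_add, hg]
  have hxl : ∀ j : {j : Option (Fin l) // ct c c0 j = 0}, Lk D l Bm x j → j = y := by
    intro j hj
    by_cases hA : A j
    · rcases hA with rfl | rfl | rfl
      · exact absurd hj (hLself _)
      · rfl
      · exact absurd hj k13
    · exact absurd (hLs hj) (hout' j hA).1
  have hzl : ∀ j : {j : Option (Fin l) // ct c c0 j = 0}, Lk D l Bm z j → j = y := by
    intro j hj
    by_cases hA : A j
    · rcases hA with rfl | rfl | rfl
      · exact absurd (hLs hj) k13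
      · rfl
      · exact absurd hj (hLself _)
    · exact absurd (hLs hj) (hout' j hA).2.2
  have hyx : Lk D l Bm (π y) (π x) := (hE y x).2 (hLs k12)
  have hyz' : Lk D l Bm (π y) (π z) := (hE y z).2 k23
  have hpy : π y = y := by
    have hAy : A (π y) := by
      by_contra hcon
      exact hxz (π.injective (hone _ hcon _ _ hyx hyz'))
    rcases hAy with h | h | h
    · rw [h] at hyx hyz'
      exact absurd (π.injective ((hxl _ hyx).trans (hxl _ hyz').symm)) hxz
    · exact h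
    · rw [h] at hyx hyz'
      exact absurd (π.injective ((hzl _ hyx).trans (hzl _ hyz').symm)) hxz
  have hpx : π x = x ∨ π x = z := by
    rw [hpy] at hyx
    by_cases hA : A (π x)
    · rcases hA with h | h | h
      · exact Or.inl h
      · exact absurd (π.injective (h.trans hpy.symm)) hxy
      · exact Or.inr h
    · exact absurd (hLs hyx) (hout' _ hA).2.1
  have hpz : π z = x ∨ π z = z := by
    rw [hpy] at hyz'
    by_cases hA : A (π z)
    · rcases hA with h | h | h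
      · exact Or.inl h
      · exact absurd (π.injective (h.trans hpy.symm)).symm hyz
      · exact Or.inr h
    · exact absurd (hLs hyz') (hout' _ hA).2.1
  have hflip : (π x = x ∧ π z = z) ∨ (π x = z ∧ π z = x) := by
    rcases hpx with h1 | h1 <;> rcases hpz with h2 | h2
    · exact absurd (π.injective (h1.trans h2.symm)) hxz
    · exact Or.inl ⟨h1, h2⟩
    · exact Or.inr ⟨h1, h2⟩
    · exact absurd (π.injective (h1.trans h2.symm)) hxz
  have hAσ : ∀ i, A (π i) ↔ A i := by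
    intro i
    rcases hflip with ⟨h1, h2⟩ | ⟨h1, h2⟩
    · constructor
      · rintro (h | h | h)
        · exact Or.inl (π.injective (h.trans h1.symm))
        · exact Or.inr (Or.inl (π.injective (h.trans hpy.symm)))
        · exact Or.inr (Or.inr (π.injective (h.trans h2.symm)))
      · rintro (rfl | rfl | rfl)
        · exact Or.inl h1
        · exact Or.inr (Or.inl hpy)
        · exact Or.inr (Or.inr h2)
    · constructor
      · rintro (h | h | h)
        · exact Or.inr (Or.inr (π.injective (h.trans h2.symm)))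
        · exact Or.inr (Or.inl (π.injective (h.trans hpy.symm)))
        · exact Or.inl (π.injective (h.trans h1.symm))
      · rintro (rfl | rfl | rfl)
        · exact Or.inr (Or.inr h1)
        · exact Or.inr (Or.inl hpy)
        · exact Or.inl h2
  -- the matching
  obtain ⟨μ, hM, hadj, hadj'⟩ := mk_mt hp hg (κ := {i // ¬ A i}) (β := fun i => b i)
    (hlin.comp _ Subtype.val_injective) (fun i j j' h1 h2 => Subtype.ext (hone i i.2 j j' ((hL _ _).1 h1) ((hL _ _).1 h2)))
    (π := π.subtypePerm (p := fun i => ¬ A i) fun i => not_congr (hAσ i)) (fun j => hπ j)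
  have hnd := tri_nodup hlin hxy hyz hxz
  have hbS : ∀ j, b j ∈ Sx M.toCoxeterSystem hp.isCartan (ch hp) t ∧ 0 ≤ b j := fun j =>
    (hSJ _).2 (SJ_al hp K j.2)
  have kxy : bl Bm (b x) (b y) = -1 := by rw [hF]; exact k12
  have kyz : bl Bm (b y) (b z) = -1 := by rw [hF]; exact k23
  have kxz : bl Bm (b x) (b z) = 0 := hval x z hxz k13
  have hA' : ∀ i, A i ↔ i = x ∨ i = y ∨ i = z := fun i => Iff.rfl
  have hAx : ∀ i : {i // ¬ A i}, (i : {j : Option (Fin l) // ct c c0 j = 0}) ≠ x := fun i h => i.2 (Or.inl h)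
  have hAy : ∀ i : {i // ¬ A i}, (i : {j : Option (Fin l) // ct c c0 j = 0}) ≠ y := fun i h => i.2 (Or.inr (Or.inl h))
  have hAz : ∀ i : {i // ¬ A i}, (i : {j : Option (Fin l) // ct c c0 j = 0}) ≠ z := fun i h => i.2 (Or.inr (Or.inr h))
  have hAB : ∀ i, ¬ A i → bl Bm (b x) (b i) = 0 ∧ bl Bm (b y) (b i) = 0 ∧ bl Bm (b z) (b i) = 0 := by
    intro i hi
    obtain ⟨h1, h2, h3⟩ := hout' i hi
    exact ⟨hval x i (fun h => hi (Or.inl h.symm)) (fun h => h1 (hLs h)),
      hval y i (fun h => hi (Or.inr (Or.inl h.symm))) (fun h => h2 (hLs h)),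
      hval z i (fun h => hi (Or.inr (Or.inr h.symm))) (fun h => h3 (hLs h))⟩
  have hf : ∀ i j : {i // ¬ A i}, bl Bm (b i) (b j) =
      (if j = i then 2 else 0) - (if μ i = i then 0 else if j = μ i then 1 else 0) := by
    intro i j
    by_cases hji : j = i
    · subst hji
      rw [if_pos rfl, hself]
      by_cases hμj : μ j = j
      · rw [if_pos hμj, sub_zero]
      · rw [if_neg hμj, if_neg (Ne.symm hμj), sub_zero]
    · rw [if_neg hji]
      by_cases hjμ : j = μ i
      · have hμi : μ i ≠ i := fun h => hji (hjμ.trans h)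
        rw [if_neg hμi, if_pos hjμ, hjμ, bl_of_add hp E (hrb _) (hrb _) (hadj' i hμi)]
        rfl
      · have hk : ¬ Lk D l Bm i j := fun h => hjμ (hadj i j ((hL _ _).2 h))
        rw [hval i j (fun h => hji (Subtype.ext h.symm)) hk, if_neg hjμ]
        by_cases hμi : μ i = i
        · rw [if_pos hμi, sub_zero]
        · rw [if_neg hμi, sub_zero]
  have hdis : Disjoint (P3 (b x) (b y) (b z)) (PM (fun i : {i // ¬ A i} => b i) μ) := by
    rw [Finset.disjoint_left]
    intro v hv hv'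
    rcases mem_PM.1 hv' with ⟨i, rfl⟩ | ⟨i, hi, rfl⟩
    · refine tri_notMem hlin hxy hyz hxz (Pi.single i.1 1) (Pi.single_eq_of_ne (hAx i).symm _)
        (Pi.single_eq_of_ne (hAy i).symm _) (Pi.single_eq_of_ne (hAz i).symm _) ?_
      rw [sum_single]
      exact hv
    · refine tri_notMem hlin hxy hyz hxz (Pi.single i.1 1 + Pi.single (μ i).1 1) ?_ ?_ ?_ ?_
      · rw [Pi.add_apply, Pi.single_eq_of_ne (hAx i).symm, Pi.single_eq_of_ne (hAx _).symm, add_zero]
      · rw [Pi.add_apply, Pi.single_eq_of_ne (hAy i).symm, Pi.single_eq_of_ne (hAy _).symm, add_zero]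
      · rw [Pi.add_apply, Pi.single_eq_of_ne (hAz i).symm, Pi.single_eq_of_ne (hAz _).symm, add_zero]
      · rw [sum_single2]
        exact hv
  refine ⟨P3 (b x) (b y) (b z) ∪ PM (fun i : {i // ¬ A i} => b i) μ, fun v => ?_, hlin, fun q hq =>
    pi_three hq (fun i => hπ i) hxy hyz hxz hpy hflip hA' hAσ hM hnd hdis⟩
  constructor
  · intro hv
    have hsxy : b x + b y ∈ Sx M.toCoxeterSystem hp.isCartan (ch hp) t ∧ 0 ≤ b x + b y :=
      sx_add hp K hSJ (hbS x) (hbS y) ((hL _ _).2 k12)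
    rcases Finset.mem_union.1 hv with h | h
    · rcases mem_P3.1 h with rfl | rfl | rfl | rfl | rfl | rfl
      · exact hbS _
      · exact hbS _
      · exact hbS _
      · exact hsxy
      · exact sx_add hp K hSJ (hbS y) (hbS z) ((hL _ _).2 k23)
      · refine sx_add hp K hSJ hsxy (hbS z) (isRoot_add_bl hp E ((hL _ _).2 k12) (hrb z) ?_)
        rw [map_add, bl_comm E.1.1, kxz, bl_comm E.1.1, kyz]
        rfl
    · rcases mem_PM.1 h with ⟨i, rfl⟩ | ⟨i, hi, rfl⟩
      · exact hbS _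
      · exact sx_add hp K hSJ (hbS _) (hbS _) (hadj' i hi)
  · intro hv
    have hwx : rep M.toCoxeterSystem hp.isCartan w (rep M.toCoxeterSystem hp.isCartan w⁻¹ v) = v :=
      rep_apply_inv _ _ _ _
    have h1 : SJ hp n c (rep M.toCoxeterSystem hp.isCartan w⁻¹ v) := by
      rw [← hSJ, hwx]
      exact hv
    obtain ⟨m, hm0, hmJ, hm⟩ := exists_coef hp K h1
    have hv1 : v = ∑ i : {j : Option (Fin l) // ct c c0 j = 0}, m i • b i := by
      rw [← hwx, hm, map_sum, sum_sub (fun j => ct c c0 j = 0) _ fun j hj => ?_]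
      · exact Finset.sum_congr rfl fun i _ => by rw [map_zsmul]
      · have : m j = 0 := by
          by_contra h
          exact hj (hmJ j h)
        rw [this, zero_smul, map_zero]
    exact tri_class E.1.1 hself hxy hyz hxz kxy kyz kxz hA' hAB hM.mm hf (m := fun i => m i) (fun i => hm0 i)
      (bl_root hp E.1 E.2.1 hv.1.1) hv1

end Cfsg.Agent.H255.RG
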