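import Cfsg.Agent.H550.RG.CntD
import Cfsg.Agent.H448.TorB.CardCyc
import Cfsg.Agent.H255.RG.BaseK

/-!
# S3509, F5: the refined bound for the centraliser (helper255)

`f : TorForm m s`, all components of the root system `Sx f.t` have rank at most two and are simply laced:

* `card_fixC_le` : `|C_{Y^σ}(s)| ≤ |PP| * q ^ (2 * #PM + #ι) * (q + 1) ^ (l - #ι)`, `b : ι → roots` the base;
* `card_fixC_le_kac` : the same from Kac coordinates;
* `ef_E6`, `ef_E7`, `ef_E8`, `ef_D4` : the check `EF`.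
-/

set_option autoImplicit false
set_option linter.unusedSectionVars false

namespace Cfsg.Agent.H255.RG

open CoxeterSystem Cfsg Cfsg.Lie Cfsg.Lie.ChevalleyDatum
open Cfsg.Agent.ChevalleyStructure Cfsg.Agent.ChevalleyStructure.Elts Cfsg.Agent.ChevalleyStructure.CoxeterGeom
  Cfsg.Agent.ChevalleyStructure.CoxeterGeomTypes Cfsg.Agent.ChevalleyStructure.NPerm
open Cfsg.Agent.Tits.Roots Cfsg.Agent.Tits.Core Cfsg.Agent.Nodes Cfsg.Agent.Nodes.Reps Cfsg.Agent.Nodes.BNOf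
  Cfsg.Agent.Nodes.RGDChev Cfsg.Agent.Nodes.Bruhat
open Cfsg.Agent.KFacts.RgdField Cfsg.Agent.KFacts.RgdChevCoord
open Cfsg.Agent.BpExc Cfsg.Agent.BpExc.TorCent Cfsg.Agent.BpExc.TorChev Cfsg.Agent.BpExc.Tow
  Cfsg.Agent.BpExc.TowChev Cfsg.Agent.BpExc.Fr Cfsg.Agent.BpExc.Pair Cfsg.Agent.BpExc.LangFr Cfsg.Agent.GpExc.Field
  Cfsg.Agent.BpExc.NInst Cfsg.Agent.BpExc.NChev
open Cfsg.Agent.H469.Exc
open Cfsg.Agent.H129.TorusChar Cfsg.Agent.H129.WData
open Cfsg.Agent.H931.KC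
open Cfsg.Agent.H169.RG Cfsg.Agent.H316.U6 Cfsg.Agent.H448.TorB
open Cfsg (fixedSubgroup)

universe u v

variable {D : ChevalleyDatum} {l : ℕ} {M : CoxeterMatrix (Fin l)} {hp : IsType D l M} {r q : ℕ} [hr : Fact r.Prime]
  {K₀ : Type v} [Group K₀] {m : MData hp r q K₀} {s : ↥(D.group (KK r))}

/-- **The refined bound, general form.** -/
theorem card_fixC_le_gen [Finite M.Group] (f : TorForm m s) {P : Finset (Fin l → ℤ)}
    (hP : ∀ a, a ∈ P ↔ a ∈ Sx M.toCoxeterSystem hp.isCartan (ch hp) f.t ∧ 0 ≤ a)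
    {ι : Type*} [Fintype ι] [DecidableEq ι] {b : ι → Fin l → ℤ} {σ : Equiv.Perm ι} (hσ : ∀ i, f.θ (b i) = b (σ i))
    (hb : LinearIndependent ℤ b) (hPI : 2 ≤ q → bsum P f.θ q * cyc q σ ≤ q ^ (P.card + Fintype.card ι)) :
    Nat.card ↥(fixC m.σ s) ≤ Nat.card ↥(PP M.toCoxeterSystem hp.isCartan (ch hp) f.t) *
      (q ^ (2 * P.card + Fintype.card ι) * (q + 1) ^ (l - Fintype.card ι)) := by
  classical
  have hq : 2 ≤ q := by
    have h1 : 2 ≤ r := hr.out.two_le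
    rw [← m.hq]
    calc 2 ≤ r := h1
      _ = r ^ 1 := (pow_one r).symm
      _ ≤ r ^ m.e := Nat.pow_le_pow_right (by omega) m.he
  have h1 := H550.RG.tor_le_bic f (P.powerset.filter (Bic P f.θ)) (fun B hB hθ hadd hco => by
    rw [mem_bs]
    refine ⟨fun a ha => (hP a).2 (hB a ha), fun a ha b hb hab => hadd a ha b hb ((hP _).1 hab).1.1,
      fun a ha b hb ha' hb' hab => ?_, hθ⟩
    rcases hco a ((hP a).1 ha).1 ((hP a).1 ha).2 b ((hP b).1 hb).1 ((hP b).1 hb).2 hab with h2 | h2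
    · exact ha' h2
    · exact hb' h2)
  have hN : (H28.RG.SP M.toCoxeterSystem hp.isCartan (ch hp) f.t).ncard = P.card := by
    rw [← Set.ncard_coe_finset]
    congr 1
    ext a
    exact (hP a).symm
  have hT : Nat.card ↥(TT D (KK r) ⊓ fixedSubgroup f.α) ≤ cyc q σ * (q + 1) ^ (l - Fintype.card ι) := by
    have h2 := card_fix_le_cyc hp M.toCoxeterSystem m.he f.frob f.fr hb hσ
      (A := ((TT D (KK r) ⊓ fixedSubgroup f.α : Subgroup ↥(D.group (KK r))) : Set ↥(D.group (KK r))))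
      (fun t ht => ⟨ht.1, ht.2⟩)
    rw [m.hq] at h2
    exact h2
  rw [hN] at h1
  refine h1.trans ?_
  calc _ ≤ (cyc q σ * (q + 1) ^ (l - Fintype.card ι)) * q ^ P.card *
        (Nat.card ↥(PP M.toCoxeterSystem hp.isCartan (ch hp) f.t) * bsum P f.θ q) :=
        Nat.mul_le_mul_right _ (Nat.mul_le_mul_right _ hT)
    _ = Nat.card ↥(PP M.toCoxeterSystem hp.isCartan (ch hp) f.t) *
        (q ^ P.card * (bsum P f.θ q * cyc q σ) * (q + 1) ^ (l - Fintype.card ι)) := by ring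
    _ ≤ Nat.card ↥(PP M.toCoxeterSystem hp.isCartan (ch hp) f.t) *
        (q ^ P.card * q ^ (P.card + Fintype.card ι) * (q + 1) ^ (l - Fintype.card ι)) :=
        Nat.mul_le_mul_left _ (Nat.mul_le_mul_right _ (Nat.mul_le_mul_left _ (hPI hq)))
    _ = _ := by
      rw [← pow_add, show P.card + (P.card + Fintype.card ι) = 2 * P.card + Fintype.card ι by ring]

/-- **The refined bound.** -/
theorem card_fixC_le [Finite M.Group] (f : TorForm m s) {ι : Type*} [Fintype ι] [DecidableEq ι] {b : ι → Fin l → ℤ}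
    {μ : ι → ι} {σ : Equiv.Perm ι} (h : Mt b μ σ f.θ)
    (hP : ∀ a, a ∈ PM b μ ↔ a ∈ Sx M.toCoxeterSystem hp.isCartan (ch hp) f.t ∧ 0 ≤ a) (hb : LinearIndependent ℤ b) :
    Nat.card ↥(fixC m.σ s) ≤ Nat.card ↥(PP M.toCoxeterSystem hp.isCartan (ch hp) f.t) *
      (q ^ (2 * (PM b μ).card + Fintype.card ι) * (q + 1) ^ (l - Fintype.card ι)) :=
  card_fixC_le_gen f hP h.th hb fun hq => Mt.pi_le hq _ rfl h

/-- **The refined bound**, from Kac coordinates. -/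
theorem card_fixC_le_kac [Finite M.Group] (f : TorForm m s) {Bm : Mat l} (E : EF D l Bm) {n : ℕ} {w : M.Group} {c : Fin l → ℕ} {c0 : ℕ}
    (K : Kac D l n c c0)
    (hSJ : ∀ a, rep M.toCoxeterSystem hp.isCartan w a ∈ Sx M.toCoxeterSystem hp.isCartan (ch hp) f.t ∧
        0 ≤ rep M.toCoxeterSystem hp.isCartan w a ↔ SJ hp n c a)
    {π : Equiv.Perm {j : Option (Fin l) // ct c c0 j = 0}}
    (hπ : ∀ j, f.θ (rep M.toCoxeterSystem hp.isCartan w (al D l j.1)) =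
      rep M.toCoxeterSystem hp.isCartan w (al D l (π j).1)) (hdeg : Deg hp fun j => ct c c0 j = 0) :
    Nat.card ↥(fixC m.σ s) ≤ Nat.card ↥(PP M.toCoxeterSystem hp.isCartan (ch hp) f.t) *
      (q ^ ((Sx M.toCoxeterSystem hp.isCartan (ch hp) f.t).ncard + Fintype.card {j : Option (Fin l) // ct c c0 j = 0}) *
        (q + 1) ^ (l - Fintype.card {j : Option (Fin l) // ct c c0 j = 0})) := by
  classical
  obtain ⟨μ, hM, hP, hlin⟩ := exists_mt hp E f.fr.root K hSJ hπ hdeg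
  have h1 := card_fixC_le f hM hP hlin
  have hN : (H28.RG.SP M.toCoxeterSystem hp.isCartan (ch hp) f.t).ncard =
      (PM (fun j : {j : Option (Fin l) // ct c c0 j = 0} => rep M.toCoxeterSystem hp.isCartan w (al D l j)) μ).card := by
    rw [← Set.ncard_coe_finset]
    congr 1
    ext a
    exact (hP a).symm
  rw [H550.RG.tor_ncard f, hN]
  exact h1

/-! ### the checks -/

theorem ef_D4 : EF chevD4 4 ![![2, -1, 0, 0], ![-1, 2, -1, -1], ![0, -1, 2, 0], ![0, -1, 0, 2]] := by decide +kernel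

theorem ef_E6 : EF chevE6 6 ![![2, 0, -1, 0, 0, 0], ![0, 2, 0, -1, 0, 0], ![-1, 0, 2, -1, 0, 0],
    ![0, -1, -1, 2, -1, 0], ![0, 0, 0, -1, 2, -1], ![0, 0, 0, 0, -1, 2]] := by decide +kernel

theorem ef_E7 : EF chevE7 7 ![![2, 0, -1, 0, 0, 0, 0], ![0, 2, 0, -1, 0, 0, 0], ![-1, 0, 2, -1, 0, 0, 0],
    ![0, -1, -1, 2, -1, 0, 0], ![0, 0, 0, -1, 2, -1, 0], ![0, 0, 0, 0, -1, 2, -1], ![0, 0, 0, 0, 0, -1, 2]] := by
  decide +kernel

theorem ef_E8 : EF chevE8 8 ![![2, 0, -1, 0, 0, 0, 0, 0], ![0, 2, 0, -1, 0, 0, 0, 0], ![-1, 0, 2, -1, 0, 0, 0, 0],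
    ![0, -1, -1, 2, -1, 0, 0, 0], ![0, 0, 0, -1, 2, -1, 0, 0], ![0, 0, 0, 0, -1, 2, -1, 0],
    ![0, 0, 0, 0, 0, -1, 2, -1], ![0, 0, 0, 0, 0, 0, -1, 2]] := by decide +kernel

/-- a decidable criterion for `Deg` -/
theorem deg_of {Bm : Mat l} (E : EF D l Bm) {p : Option (Fin l) → Prop}
    (h : ∀ i j j', p i → p j → p j' → H92.NE.bl Bm (al D l i) (al D l j) = -1 →
      H92.NE.bl Bm (al D l i) (al D l j') = -1 → j = j') : Deg hp p := fun i j j' hi hj hj' h1 h2 =>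
  h i j j' hi hj hj' (bl_of_add hp E (isRoot_al hp _) (isRoot_al hp _) h1)
    (bl_of_add hp E (isRoot_al hp _) (isRoot_al hp _) h2)

end Cfsg.Agent.H255.RG
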