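import Cfsg.Agent.H255.RG.Fin
import Cfsg.Agent.H255.RG.BaseT

/-!
# S3509, F5: the refined bound, one component `A₃` (helper255)

`card_fixC_le_kac3` : `|C_{Y^σ}(s)| ≤ |PP| * q ^ (|Sx t| + rk) * (q + 1) ^ (l - rk)`, if the diagram of `Sx f.t` is a path
`a₁, a₂, a₃` and components of rank at most two (`Deg3`, decidable). `deg_of_one` : a decidable criterion for `Deg`.
-/

set_option autoImplicit false
set_option linter.unusedSectionVars false

namespace Cfsg.Agent.H255.RG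

open CoxeterSystem Cfsg Cfsg.Lie Cfsg.Lie.ChevalleyDatum
open Cfsg.Agent.ChevalleyStructure Cfsg.Agent.ChevalleyStructure.Elts Cfsg.Agent.ChevalleyStructure.CoxeterGeom
  Cfsg.Agent.ChevalleyStructure.CoxeterGeomTypes Cfsg.Agent.ChevalleyStructure.NPerm
open Cfsg.Agent.Tits.Roots Cfsg.Agent.Tits.Core Cfsg.Agent.Nodes Cfsg.Agent.Nodes.Reps Cfsg.Agent.Nodes.BNOf
  Cfsg.Agent.Nodes.RGDChev Cfsg.Agent.Nodes.Bruhat
open Cfsg.Agent.KFacts.RgdField Cfsg.Agent.KFacts.RgdChevCoord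
open Cfsg.Agent.BpExc Cfsg.Agent.BpExc.TorCent Cfsg.Agent.BpExc.TorChev Cfsg.Agent.BpExc.Tow
  Cfsg.Agent.BpExc.TowChev Cfsg.Agent.BpExc.Fr Cfsg.Agent.BpExc.Pair Cfsg.Agent.BpExc.LangFr Cfsg.Agent.GpExc.Field
  Cfsg.Agent.BpExc.NInst Cfsg.Agent.BpExc.NChev
open Cfsg.Agent.H469.Exc
open Cfsg.Agent.H129.TorusChar Cfsg.Agent.H129.WData
open Cfsg.Agent.H931.KC
open Cfsg.Agent.H169.RG Cfsg.Agent.H316.U6 Cfsg.Agent.H448.TorB
open Cfsg (fixedSubgroup)

universe u v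

variable {D : ChevalleyDatum} {l : ℕ} {M : CoxeterMatrix (Fin l)} {hp : IsType D l M} {r q : ℕ} [hr : Fact r.Prime]
  {K₀ : Type v} [Group K₀] {m : MData hp r q K₀} {s : ↥(D.group (KK r))}

/-- **The refined bound**, one component `A₃`. -/
theorem card_fixC_le_kac3 [Finite M.Group] (f : TorForm m s) {Bm : Mat l} (E : EF D l Bm) {n : ℕ} {w : M.Group}
    {c : Fin l → ℕ} {c0 : ℕ} (K : Kac D l n c c0)
    (hSJ : ∀ a, rep M.toCoxeterSystem hp.isCartan w a ∈ Sx M.toCoxeterSystem hp.isCartan (ch hp) f.t ∧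
        0 ≤ rep M.toCoxeterSystem hp.isCartan w a ↔ SJ hp n c a)
    {π : Equiv.Perm {j : Option (Fin l) // ct c c0 j = 0}}
    (hπ : ∀ j, f.θ (rep M.toCoxeterSystem hp.isCartan w (al D l j.1)) =
      rep M.toCoxeterSystem hp.isCartan w (al D l (π j).1))
    {a₁ a₂ a₃ : Option (Fin l)} (hd : Deg3 D l Bm (fun j => ct c c0 j = 0) a₁ a₂ a₃) :
    Nat.card ↥(fixC m.σ s) ≤ Nat.card ↥(PP M.toCoxeterSystem hp.isCartan (ch hp) f.t) *
      (q ^ ((Sx M.toCoxeterSystem hp.isCartan (ch hp) f.t).ncard + Fintype.card {j : Option (Fin l) // ct c c0 j = 0}) *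
        (q + 1) ^ (l - Fintype.card {j : Option (Fin l) // ct c c0 j = 0})) := by
  classical
  obtain ⟨P, hP, hlin, hPI⟩ := exists_data3 hp E f.fr.root K hSJ hπ hd
  have h1 := card_fixC_le_gen f hP (fun i => hπ i) hlin fun hq => hPI q hq
  have hN : (H28.RG.SP M.toCoxeterSystem hp.isCartan (ch hp) f.t).ncard = P.card := by
    rw [← Set.ncard_coe_finset]
    congr 1
    ext a
    exact (hP a).symm
  rw [H550.RG.tor_ncard f, hN]
  exact h1

/-- a decidable criterion for `Deg` -/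
theorem deg_of_one {Bm : Mat l} (E : EF D l Bm) {p : Option (Fin l) → Prop} (h : ∀ i, p i → One D l Bm p i) :
    Deg hp p := deg_of E fun i j j' hi hj hj' h1 h2 => h i hi j hj j' hj' h1 h2

end Cfsg.Agent.H255.RG
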