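import Cfsg.Agent.H255.RG.Bic
import Cfsg.Agent.Nodes.Reps

/-!
# Inversion sets (helper255, S3509 F5)

`Frm cs h P θ Ω` : `P` a set of positive roots, `θ P ⊆ P`, `Ω` a subgroup of `W` preserving `P ∪ -P` and commuting with
`θ` on `P`.

* `inv cs h P w` : the `b ∈ P` with `w b < 0`; `Frm.bic` : it is biconvex;
* `Frm.sum_le` : `∑_{w ∈ Ω} q ^ |inv P w| ≤ c * bsum P θ q`, `c` the number of `w ∈ Ω` with `w P = P`.
-/

set_option autoImplicit false
set_option linter.unusedSectionVars false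

namespace Cfsg.Agent.H255.RG

open CoxeterSystem Cfsg.Agent.ChevalleyStructure.CoxeterGeom Cfsg.Agent.Tits.Roots Cfsg.Agent.Tits.Core
  Cfsg.Agent.Nodes.Reps

variable {I W : Type*} [Fintype I] [DecidableEq I] [Group W] {M : CoxeterMatrix I}
  {cs : CoxeterSystem M W} {A : I → I → ℤ} {h : IsCartan M A}

/-- the elements of `P` made negative by `w` -/
noncomputable def inv (cs : CoxeterSystem M W) (h : IsCartan M A) (P : Finset (I → ℤ)) (w : W) : Finset (I → ℤ) :=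
  @Finset.filter _ (fun b => rep cs h w b ≤ 0) (Classical.decPred _) P

theorem mem_inv {P : Finset (I → ℤ)} {w : W} {b : I → ℤ} : b ∈ inv cs h P w ↔ b ∈ P ∧ rep cs h w b ≤ 0 :=
  @Finset.mem_filter _ _ (Classical.decPred _) _ _

/-- the data -/
structure Frm (cs : CoxeterSystem M W) (h : IsCartan M A) (P : Finset (I → ℤ)) (θ : (I → ℤ) ≃+ (I → ℤ))
    (Ω : Subgroup W) : Prop where
  root : ∀ b ∈ P, IsRoot cs h b ∧ 0 ≤ b
  th : ∀ b ∈ P, θ b ∈ P
  stab : ∀ w ∈ Ω, ∀ b ∈ P, rep cs h w b ∈ P ∨ -rep cs h w b ∈ P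
  comm : ∀ w ∈ Ω, ∀ b ∈ P, rep cs h w (θ b) = θ (rep cs h w b)

namespace Frm

variable {P : Finset (I → ℤ)} {θ : (I → ℤ) ≃+ (I → ℤ)} {Ω : Subgroup W}

/-- a root of `P` which stays non-positive has its negative in `P` -/
theorem neg_mem (F : Frm cs h P θ Ω) {w : W} (hw : w ∈ Ω) {b : I → ℤ} (hb : b ∈ P) (h0 : rep cs h w b ≤ 0) :
    -rep cs h w b ∈ P := by
  rcases F.stab w hw b hb with h1 | h1
  · exact absurd h0 ((F.root b hb).1.act w |>.not_pos_neg (F.root _ h1).2)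
  · exact h1

/-- a root of `P` which does not become negative stays in `P` -/
theorem pos_mem (F : Frm cs h P θ Ω) {w : W} (hw : w ∈ Ω) {b : I → ℤ} (hb : b ∈ P) (h0 : ¬ rep cs h w b ≤ 0) :
    rep cs h w b ∈ P := by
  rcases F.stab w hw b hb with h1 | h1
  · exact h1
  · exact absurd (neg_nonneg.1 (F.root _ h1).2) h0

/-- **inversion sets are biconvex** -/
theorem bic (F : Frm cs h P θ Ω) {w : W} (hw : w ∈ Ω) : Bic P θ (inv cs h P w) where
  sub := fun b hb => (mem_inv.1 hb).1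
  add a ha b hb hab := by
    rw [mem_inv] at ha hb ⊢
    refine ⟨hab, ?_⟩
    rw [map_add]
    exact add_nonpos ha.2 hb.2
  coadd a ha b hb ha' hb' hab := by
    rw [mem_inv] at ha' hb' hab
    have h1 : 0 ≤ rep cs h w a :=
      ((F.root a ha).1.act w).pos_or_neg.resolve_right fun h => ha' ⟨ha, h⟩
    have h2 : 0 ≤ rep cs h w b :=
      ((F.root b hb).1.act w).pos_or_neg.resolve_right fun h => hb' ⟨hb, h⟩
    have h3 : 0 ≤ rep cs h w (a + b) := by rw [map_add]; exact add_nonneg h1 h2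
    exact ((F.root _ hab.1).1.act w).not_pos_neg h3 hab.2
  st a ha := by
    rw [mem_inv] at ha ⊢
    refine ⟨F.th a ha.1, ?_⟩
    rw [F.comm w hw a ha.1]
    have h1 := (F.root _ (F.th _ (F.neg_mem hw ha.1 ha.2))).2
    rwa [map_neg, neg_nonneg] at h1

/-- the elements of a fibre differ by elements preserving `P` -/
theorem fib (F : Frm cs h P θ Ω) {w w₀ : W} (hw : w ∈ Ω) (hw₀ : w₀ ∈ Ω) (he : inv cs h P w = inv cs h P w₀) :
    w * w₀⁻¹ ∈ Ω ∧ ∀ b ∈ P, rep cs h (w * w₀⁻¹) b ∈ P := by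
  refine ⟨mul_mem hw (inv_mem hw₀), fun b hb => ?_⟩
  have h1 : rep cs h w₀ (rep cs h w₀⁻¹ b) = b := rep_apply_inv cs h w₀ b
  rw [rep_mul_apply]
  by_cases h0 : rep cs h w₀⁻¹ b ≤ 0
  · have h2 := F.neg_mem (inv_mem hw₀) hb h0
    have h3 : -rep cs h w₀⁻¹ b ∈ inv cs h P w₀ := by
      rw [mem_inv, map_neg, h1]
      exact ⟨h2, neg_nonpos.2 (F.root b hb).2⟩
    rw [← he, mem_inv] at h3
    have h4 := F.neg_mem hw h3.1 h3.2
    rwa [map_neg, neg_neg] at h4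
  · have h2 := F.pos_mem (inv_mem hw₀) hb h0
    refine F.pos_mem hw h2 fun h3 => ?_
    have h4 : rep cs h w₀⁻¹ b ∈ inv cs h P w := mem_inv.2 ⟨h2, h3⟩
    rw [he, mem_inv, h1] at h4
    exact (F.root b hb).1.not_pos_neg (F.root b hb).2 h4.2

/-- **The sum over the stabiliser.** -/
theorem sum_le [Finite W] (F : Frm cs h P θ Ω) {S : Finset W} (hS : ∀ w ∈ S, w ∈ Ω) {c : ℕ}
    (hc : Nat.card {w : W // w ∈ Ω ∧ ∀ b ∈ P, rep cs h w b ∈ P} ≤ c) (q : ℕ) :
    ∑ w ∈ S, q ^ (inv cs h P w).card ≤ c * bsum P θ q := by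
  refine RG.sum_le S (inv cs h P) (fun w hw => F.bic (hS w hw)) (fun S' hS' he => ?_) q
  rcases S'.eq_empty_or_nonempty with rfl | ⟨w₀, hw₀⟩
  · simp
  refine le_trans ?_ hc
  rw [← Nat.card_eq_finsetCard]
  refine Nat.card_le_card_of_injective (fun w : S' => (⟨w * w₀⁻¹, F.fib (hS _ (hS' w.2)) (hS _ (hS' hw₀))
    (he _ w.2 _ hw₀)⟩ : {w : W // w ∈ Ω ∧ ∀ b ∈ P, rep cs h w b ∈ P})) ?_
  intro w w' hww
  exact Subtype.ext (mul_right_cancel (congrArg Subtype.val hww))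

end Frm

end Cfsg.Agent.H255.RG
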